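import Mathlib

set_option autoImplicit false
set_option linter.unusedSectionVars false
set_option linter.unusedVariables false

/-!
# S3894 (no group between `PSL_n(q)` and `PGL_n(q)` has a nilpotent minimal cover): definitions

`PG n F = GL (Fin n) F ⧸ center` (the type of the statement) with Mathlib's action on the projective space
`ℙ F (Fin n → F)`, the inverse-transpose endomorphism `pgInvT` (dual action: `pgInvT x • [w] = [w]` iff `x` fixes the hyperplane
`ker wᵀ`), and the subgroup `slImage n F` of the statement.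
-/

namespace Cfsg.Agent.Helper94.Nc

open Matrix Projectivization
open scoped LinearAlgebra.Projectivization

variable {F : Type*} [Field F] {n : ℕ}

/-- `PGL_n(F)` as in the statement of S3894 -/
abbrev PG (n : ℕ) (F : Type*) [Field F] := GL (Fin n) F ⧸ Subgroup.center (GL (Fin n) F)

noncomputable instance instMulActionPG : MulAction (PG n F) (ℙ F (Fin n → F)) :=
  inferInstanceAs (MulAction (Matrix.ProjGenLinGroup (Fin n) F) (ℙ F (Fin n → F)))

theorem mulVec_ne_zero (g : GL (Fin n) F) {v : Fin n → F} (hv : v ≠ 0) : g.1 *ᵥ v ≠ 0 := by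
  intro h
  apply hv
  have := congrArg (fun w => (g⁻¹).1 *ᵥ w) h
  simpa using this

theorem mk_smul_mk (g : GL (Fin n) F) {v : Fin n → F} (hv : v ≠ 0) :
    (QuotientGroup.mk g : PG n F) • Projectivization.mk F v hv =
      Projectivization.mk F (g.1 *ᵥ v) (mulVec_ne_zero g hv) := rfl

/-- `(mk g) • [v] = [v]` iff `v` is an eigenvector of `g` -/
theorem mk_smul_mk_eq_iff (g : GL (Fin n) F) {v : Fin n → F} (hv : v ≠ 0) :
    (QuotientGroup.mk g : PG n F) • Projectivization.mk F v hv = Projectivization.mk F v hv ↔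
      ∃ c : F, g.1 *ᵥ v = c • v := by
  rw [mk_smul_mk, Projectivization.mk_eq_mk_iff']
  constructor
  · rintro ⟨a, ha⟩
    exact ⟨a, ha.symm⟩
  · rintro ⟨c, hc⟩
    exact ⟨c, hc.symm⟩

/-- inverse transpose on `GL` -/
def glInvT : GL (Fin n) F →* GL (Fin n) F where
  toFun g := ⟨(g⁻¹).1ᵀ, g.1ᵀ, by
    rw [← Matrix.transpose_mul]; simp, by
    rw [← Matrix.transpose_mul]; simp⟩
  map_one' := by
    apply Units.ext
    simp
  map_mul' g h := by
    apply Units.ext
    simp [Matrix.transpose_mul]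

theorem glInvT_val (g : GL (Fin n) F) : (glInvT g).1 = (g⁻¹).1ᵀ := rfl

theorem glInvT_center (g : GL (Fin n) F) (hg : g ∈ Subgroup.center (GL (Fin n) F)) :
    glInvT g ∈ Subgroup.center (GL (Fin n) F) := by
  have hg' := Subgroup.inv_mem _ hg
  rw [Matrix.GeneralLinearGroup.mem_center_iff_val_mem_range_scalar] at hg' ⊢
  obtain ⟨a, ha⟩ := hg'
  refine ⟨a, ?_⟩
  rw [glInvT_val, ← ha]
  simp

/-- inverse transpose on `PGL` -/
def pgInvT : PG n F →* PG n F :=
  QuotientGroup.map _ _ glInvT (fun g hg => glInvT_center g hg)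

theorem pgInvT_mk (g : GL (Fin n) F) :
    pgInvT (QuotientGroup.mk g : PG n F) = QuotientGroup.mk (glInvT g) := rfl

/-- `x` fixes the hyperplane `ker wᵀ`: in coordinates, `w ᵥ* g = c • w` -/
theorem pgInvT_mk_smul_mk_eq_iff (g : GL (Fin n) F) {w : Fin n → F} (hw : w ≠ 0) :
    pgInvT (QuotientGroup.mk g : PG n F) • Projectivization.mk F w hw = Projectivization.mk F w hw ↔
      ∃ c : F, w ᵥ* g.1 = c • w := by
  rw [pgInvT_mk, mk_smul_mk_eq_iff]
  have h1 : (g⁻¹).1 * g.1 = 1 := by simp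
  have h2 : g.1 * (g⁻¹).1 = 1 := by simp
  constructor
  · rintro ⟨c, hc⟩
    have hc0 : c ≠ 0 := by
      rintro rfl
      rw [zero_smul] at hc
      exact mulVec_ne_zero _ hw hc
    refine ⟨c⁻¹, ?_⟩
    rw [glInvT_val, Matrix.mulVec_transpose] at hc
    have h3 : (w ᵥ* (g⁻¹).1) ᵥ* g.1 = (c • w) ᵥ* g.1 := by rw [hc]
    rw [Matrix.vecMul_vecMul, h1, Matrix.vecMul_one, Matrix.smul_vecMul] at h3
    calc w ᵥ* g.1 = c⁻¹ • (c • (w ᵥ* g.1)) := by rw [smul_smul, inv_mul_cancel₀ hc0, one_smul]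
      _ = c⁻¹ • w := by rw [← h3]
  · rintro ⟨c, hc⟩
    have hc0 : c ≠ 0 := by
      rintro rfl
      rw [zero_smul] at hc
      apply hw
      have h3 : (w ᵥ* g.1) ᵥ* (g⁻¹).1 = 0 ᵥ* (g⁻¹).1 := by rw [hc]
      rw [Matrix.vecMul_vecMul, h2, Matrix.vecMul_one, Matrix.zero_vecMul] at h3
      exact h3
    refine ⟨c⁻¹, ?_⟩
    rw [glInvT_val, Matrix.mulVec_transpose]
    have h3 : (w ᵥ* g.1) ᵥ* (g⁻¹).1 = (c • w) ᵥ* (g⁻¹).1 := by rw [hc]
    rw [Matrix.vecMul_vecMul, h2, Matrix.vecMul_one, Matrix.smul_vecMul] at h3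
    calc w ᵥ* (g⁻¹).1 = c⁻¹ • (c • (w ᵥ* (g⁻¹).1)) := by
          rw [smul_smul, inv_mul_cancel₀ hc0, one_smul]
      _ = c⁻¹ • w := by rw [← h3]

/-- the image of `SL_n(F)` in `PGL_n(F)`, as in the statement -/
def slImage (n : ℕ) (F : Type*) [Field F] : Subgroup (PG n F) :=
  ((Matrix.SpecialLinearGroup.toGL : Matrix.SpecialLinearGroup (Fin n) F →* GL (Fin n) F).range).map
    (QuotientGroup.mk' (Subgroup.center (GL (Fin n) F)))

theorem mk_mem_slImage (s : Matrix.SpecialLinearGroup (Fin n) F) :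
    (QuotientGroup.mk (Matrix.SpecialLinearGroup.toGL s) : PG n F) ∈ slImage n F :=
  ⟨_, ⟨s, rfl⟩, rfl⟩

/-- an element of `GL` with determinant one gives an element of `slImage` -/
theorem mk_mem_slImage_of_det (g : GL (Fin n) F) (hg : g.1.det = 1) :
    (QuotientGroup.mk g : PG n F) ∈ slImage n F := by
  have : g = Matrix.SpecialLinearGroup.toGL ⟨g.1, hg⟩ := by
    apply Units.ext
    rfl
  rw [this]
  exact mk_mem_slImage _

/-- the subgroup of `G` of the elements having a lift to `GL` that commutes with `c` -/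
def cen (G : Subgroup (PG n F)) (c : GL (Fin n) F) : Subgroup ↥G where
  carrier := {x | ∃ h : GL (Fin n) F, (QuotientGroup.mk h : PG n F) = (x : PG n F) ∧ Commute h c}
  one_mem' := ⟨1, rfl, Commute.one_left c⟩
  mul_mem' := by
    rintro x y ⟨h, hx, hc⟩ ⟨k, hy, kc⟩
    refine ⟨h * k, ?_, hc.mul_left kc⟩
    rw [QuotientGroup.mk_mul, hx, hy]
    rfl
  inv_mem' := by
    rintro x ⟨h, hx, hc⟩
    refine ⟨h⁻¹, ?_, hc.inv_left⟩
    rw [QuotientGroup.mk_inv, hx]
    rfl

theorem mem_cen_iff (G : Subgroup (PG n F)) (c : GL (Fin n) F) (x : ↥G) :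
    x ∈ cen G c ↔ ∃ h : GL (Fin n) F, (QuotientGroup.mk h : PG n F) = (x : PG n F) ∧ Commute h c :=
  Iff.rfl

/-- diagonal matrices in `GL_2` -/
def dg (b c : Fˣ) : GL (Fin 2) F :=
  ⟨Matrix.diagonal ![(b : F), (c : F)], Matrix.diagonal ![((b⁻¹ : Fˣ) : F), ((c⁻¹ : Fˣ) : F)], by
    rw [Matrix.diagonal_mul_diagonal, ← Matrix.diagonal_one]
    congr 1
    funext i
    fin_cases i <;> simp, by
    rw [Matrix.diagonal_mul_diagonal, ← Matrix.diagonal_one]
    congr 1
    funext i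
    fin_cases i <;> simp⟩

theorem dg_val (b c : Fˣ) : (dg b c).1 = Matrix.diagonal ![(b : F), (c : F)] := rfl

theorem det_dg (b c : Fˣ) : (dg b c).1.det = (b : F) * c := by
  rw [dg_val, Matrix.det_diagonal, Fin.prod_univ_two]
  simp

/-- the first basis vector of `F²` -/
def e0 : Fin 2 → F := ![1, 0]

theorem e0_ne_zero : (e0 : Fin 2 → F) ≠ 0 := by
  intro h
  have := congrFun h 0
  simp [e0] at this

/-- the second basis vector of `F²` -/
def e1 : Fin 2 → F := ![0, 1]

theorem e1_ne_zero : (e1 : Fin 2 → F) ≠ 0 := by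
  intro h
  have := congrFun h 1
  simp [e1] at this

/-- the point `[e0]` of the projective line -/
def pt0 : ℙ F (Fin 2 → F) := Projectivization.mk F e0 e0_ne_zero

/-- the point `[e1]` of the projective line -/
def pt1 : ℙ F (Fin 2 → F) := Projectivization.mk F e1 e1_ne_zero

theorem pt0_ne_pt1 : (pt0 : ℙ F (Fin 2 → F)) ≠ pt1 := by
  intro h
  unfold pt0 pt1 at h
  rw [Projectivization.mk_eq_mk_iff'] at h
  obtain ⟨a, ha⟩ := h
  have := congrFun ha 0
  simp [e0, e1] at this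

end Cfsg.Agent.Helper94.Nc
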