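import Mathlib
import Cfsg.Agent.Helper94.Nc.Defs

set_option autoImplicit false
set_option linter.unusedSectionVars false
set_option linter.unusedVariables false

/-!
# (COUNT) counting through a well-defined surjection (pure finset lemmas, no group theory)

`Im Φ ⊆ S`; `f : Im Φ → β`, `Φ i ↦ π i` is well defined (`hwd`), its image contains `T` (`hsurj`); so
`T.card ≤ (Im Φ).card ≤ S.card`; if `f` is not injective (`hni`) the first inequality is strict; if `S.card ≤ T.card` then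
`Im Φ = S`.  (Classical `DecidableEq`; `Set.range Φ ∩ ↑S` is finite; or choose for each `b ∈ T` an index `i_b` with `π i_b = b`:
`b ↦ Φ i_b` is injective `T → S` by `hwd`.)
-/

namespace Cfsg.Agent.Helper94.Nc

/-- a section of `π` over `T`, pushed to `S` by `Φ`: an injective image of `T` inside `S` -/
theorem COUNT_image {α β ι : Type*} (Φ : ι → α) (π : ι → β) (S : Finset α) (T : Finset β)
    (hΦ : ∀ i, Φ i ∈ S) (hwd : ∀ i j, Φ i = Φ j → π i = π j) (hsurj : ∀ b ∈ T, ∃ i, π i = b) :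
    ∃ I : Finset α, I ⊆ S ∧ I.card = T.card ∧
      (∀ a ∈ I, ∃ i, Φ i = a) ∧
      (∀ i j, Φ i ∈ I → Φ j ∈ I → π i = π j → Φ i = Φ j) := by
  classical
  let c : {b // b ∈ T} → ι := fun b => (hsurj b.1 b.2).choose
  have hc : ∀ b : {b // b ∈ T}, π (c b) = b.1 := fun b => (hsurj b.1 b.2).choose_spec
  have hinj : Function.Injective (fun b : {b // b ∈ T} => Φ (c b)) := by
    intro b b' hbb
    have h1 := hwd _ _ hbb
    rw [hc, hc] at h1
    exact Subtype.ext h1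
  refine ⟨T.attach.image (fun b => Φ (c b)), ?_, ?_, ?_, ?_⟩
  · intro a ha
    obtain ⟨b, -, rfl⟩ := Finset.mem_image.1 ha
    exact hΦ _
  · rw [Finset.card_image_of_injective _ hinj, Finset.card_attach]
  · intro a ha
    obtain ⟨b, -, rfl⟩ := Finset.mem_image.1 ha
    exact ⟨c b, rfl⟩
  · intro i j hi hj hij
    obtain ⟨b, -, hb⟩ := Finset.mem_image.1 hi
    obtain ⟨b', -, hb'⟩ := Finset.mem_image.1 hj
    have h1 := hwd _ _ hb
    have h2 := hwd _ _ hb'
    rw [hc] at h1 h2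
    have hbb : b = b' := Subtype.ext (by rw [h1, h2, hij])
    rw [← hb, ← hb', hbb]

theorem card_le_of_map {α β ι : Type*} (Φ : ι → α) (π : ι → β) (S : Finset α) (T : Finset β)
    (hΦ : ∀ i, Φ i ∈ S) (hwd : ∀ i j, Φ i = Φ j → π i = π j) (hsurj : ∀ b ∈ T, ∃ i, π i = b) :
    T.card ≤ S.card := by
  obtain ⟨I, hIS, hIc, -, -⟩ := COUNT_image Φ π S T hΦ hwd hsurj
  rw [← hIc]
  exact Finset.card_le_card hIS

theorem card_lt_of_map {α β ι : Type*} (Φ : ι → α) (π : ι → β) (S : Finset α) (T : Finset β)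
    (hΦ : ∀ i, Φ i ∈ S) (hwd : ∀ i j, Φ i = Φ j → π i = π j) (hsurj : ∀ b ∈ T, ∃ i, π i = b)
    (hni : ∃ i j, π i = π j ∧ Φ i ≠ Φ j) : T.card < S.card := by
  obtain ⟨I, hIS, hIc, -, hI2⟩ := COUNT_image Φ π S T hΦ hwd hsurj
  obtain ⟨i, j, hij, hne⟩ := hni
  rw [← hIc]
  apply Finset.card_lt_card
  rw [Finset.ssubset_iff_of_subset hIS]
  by_cases hi : Φ i ∈ I
  · by_cases hj : Φ j ∈ I
    · exact absurd (hI2 i j hi hj hij) hne
    · exact ⟨Φ j, hΦ j, hj⟩
  · exact ⟨Φ i, hΦ i, hi⟩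

theorem exists_of_card_le {α β ι : Type*} (Φ : ι → α) (π : ι → β) (S : Finset α) (T : Finset β)
    (hΦ : ∀ i, Φ i ∈ S) (hwd : ∀ i j, Φ i = Φ j → π i = π j) (hsurj : ∀ b ∈ T, ∃ i, π i = b)
    (hπ : ∀ i, π i ∈ T) (hle : S.card ≤ T.card) : ∀ A ∈ S, ∃ i, Φ i = A := by
  obtain ⟨I, hIS, hIc, hI1, -⟩ := COUNT_image Φ π S T hΦ hwd hsurj
  have hEq : I = S := Finset.eq_of_subset_of_card_le hIS (by rw [hIc]; exact hle)
  intro A hA
  exact hI1 A (by rw [hEq]; exact hA)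

end Cfsg.Agent.Helper94.Nc
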