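import Mathlib
import Cfsg.Agent.Helper94.Nc.Defs

set_option autoImplicit false
set_option linter.unusedSectionVars false
set_option linter.unusedVariables false

/-!
# (FIX) a `p`-subgroup of `PGL_n(q)` (`p` the characteristic) fixes a point and a hyperplane

`(q - 1) * #ℙ = q ^ n - 1` (Mathlib `Mathlib/LinearAlgebra/Projectivization/Cardinality.lean`: `Projectivization.card`,
`Projectivization.card''`), so `#ℙ = 1 + q + ⋯ + q ^ (n - 1) ≡ 1 (mod p)` and `p ∤ #ℙ`;
`IsPGroup.exists_fixed_point_of_prime_not_dvd_card` for the action of `↥A` on `ℙ F (Fin n → F)` (finite: `Fintype F`).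
The hyperplane: apply the first statement to `A.map pgInvT` (`IsPGroup.map`).

(filled by helper37.)
-/

namespace Cfsg.Agent.Helper94.Nc

open Matrix Projectivization
open scoped LinearAlgebra.Projectivization

/-- the number of points of the projective space is prime to the characteristic -/
theorem not_dvd_card_proj_aux {F : Type*} [Field F] [Fintype F] {n : ℕ} (p : ℕ) [Fact p.Prime]
    [CharP F p] (hn : 1 ≤ n) : ¬ p ∣ Nat.card (ℙ F (Fin n → F)) := by
  have hp : p.Prime := Fact.out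
  have hfr : Module.finrank F (Fin n → F) = n := by simp
  rw [Projectivization.card_of_finrank F (Fin n → F) hfr]
  obtain ⟨m, rfl⟩ : ∃ m, n = m + 1 := ⟨n - 1, by omega⟩
  rw [Finset.sum_range_succ', pow_zero]
  have hpq : p ∣ Nat.card F := by
    obtain ⟨e, _, he⟩ := FiniteField.card F p
    rw [Nat.card_eq_fintype_card, he]
    exact dvd_pow_self p e.ne_zero
  have hsum : p ∣ ∑ i ∈ Finset.range m, Nat.card F ^ (i + 1) := by
    apply Finset.dvd_sum
    intro i _
    exact Dvd.dvd.trans hpq (dvd_pow_self _ (Nat.succ_ne_zero i))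
  intro h
  have h1 : p ∣ 1 := (Nat.dvd_add_right hsum).mp h
  exact hp.one_lt.ne' (Nat.dvd_one.mp h1)

theorem exists_fixed_point {F : Type*} [Field F] [Fintype F] {n : ℕ} (p : ℕ) [Fact p.Prime] [CharP F p]
    (hn : 1 ≤ n) (A : Subgroup (PG n F)) (hA : IsPGroup p A) :
    ∃ pt : ℙ F (Fin n → F), ∀ a ∈ A, a • pt = pt := by
  obtain ⟨pt, hpt⟩ := hA.nonempty_fixed_point_of_prime_not_dvd_card (ℙ F (Fin n → F))
    (not_dvd_card_proj_aux p hn)
  refine ⟨pt, fun a ha => ?_⟩
  exact hpt ⟨a, ha⟩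

theorem exists_fixed_hyperplane {F : Type*} [Field F] [Fintype F] {n : ℕ} (p : ℕ) [Fact p.Prime]
    [CharP F p] (hn : 1 ≤ n) (A : Subgroup (PG n F)) (hA : IsPGroup p A) :
    ∃ pt : ℙ F (Fin n → F), ∀ a ∈ A, pgInvT a • pt = pt := by
  obtain ⟨pt, hpt⟩ := exists_fixed_point p hn (A.map pgInvT) (hA.map pgInvT)
  exact ⟨pt, fun a ha => hpt _ (Subgroup.mem_map_of_mem _ ha)⟩

end Cfsg.Agent.Helper94.Nc
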