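import Mathlib
import Cfsg.Agent.Helper94.Nc.Defs

set_option autoImplicit false
set_option linter.unusedSectionVars false
set_option linter.unusedVariables false

/-!
# (HYP) hyperplanes through a point

`v ≠ 0`: pick `k` with `v k ≠ 0`; for `i ≠ k`, `w := v k • e_i - v i • e_k` (`Pi.single`) is nonzero (`w i = v k`) and `w ⬝ᵥ v = 0`.
For `n ≥ 3` two indices `i ≠ j` different from `k` give non-proportional vectors (`w i = v k ≠ 0 = w' i`;
`Projectivization.mk_eq_mk_iff'`).
-/

namespace Cfsg.Agent.Helper94.Nc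

open Matrix Projectivization
open scoped LinearAlgebra.Projectivization

/-- auxiliary (helper22): the vector `v k • e_i - v i • e_k` -/
theorem hypVec_props_h22 {F : Type*} [Field F] {n : ℕ} (v : Fin n → F) (i k : Fin n) (hik : i ≠ k) :
    (v k • (Pi.single i (1 : F) : Fin n → F) - v i • (Pi.single k (1 : F) : Fin n → F)) i = v k ∧
    (∀ j, j ≠ i → j ≠ k →
      (v k • (Pi.single i (1 : F) : Fin n → F) - v i • (Pi.single k (1 : F) : Fin n → F)) j = 0) ∧
    (v k • (Pi.single i (1 : F) : Fin n → F) - v i • (Pi.single k (1 : F) : Fin n → F)) ⬝ᵥ v = 0 := by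
  refine ⟨?_, ?_, ?_⟩
  · simp [hik]
  · intro j hji hjk
    simp [hji, hjk]
  · rw [sub_dotProduct, smul_dotProduct, smul_dotProduct, single_dotProduct, single_dotProduct]
    simp
    ring

theorem exists_hyperplane {F : Type*} [Field F] {n : ℕ} (hn : 2 ≤ n) (v : Fin n → F) (hv : v ≠ 0) :
    ∃ w : Fin n → F, w ≠ 0 ∧ w ⬝ᵥ v = 0 := by
  obtain ⟨k, hk⟩ := Function.ne_iff.1 hv
  have hk' : v k ≠ 0 := hk
  obtain ⟨i, hik⟩ : ∃ i : Fin n, i ≠ k := by
    by_cases h0 : k.val = 0
    · refine ⟨⟨1, by omega⟩, ?_⟩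
      intro h
      have := congrArg Fin.val h
      simp at this
      omega
    · refine ⟨⟨0, by omega⟩, ?_⟩
      intro h
      have := congrArg Fin.val h
      simp at this
      omega
  obtain ⟨h1, _, h3⟩ := hypVec_props_h22 v i k hik
  refine ⟨_, ?_, h3⟩
  intro h
  rw [h] at h1
  exact hk' h1.symm

theorem exists_two_hyperplanes {F : Type*} [Field F] {n : ℕ} (hn : 3 ≤ n) (v : Fin n → F)
    (hv : v ≠ 0) :
    ∃ (w w' : Fin n → F) (hw : w ≠ 0) (hw' : w' ≠ 0), w ⬝ᵥ v = 0 ∧ w' ⬝ᵥ v = 0 ∧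
      Projectivization.mk F w hw ≠ Projectivization.mk F w' hw' := by
  obtain ⟨k, hk⟩ := Function.ne_iff.1 hv
  have hk' : v k ≠ 0 := hk
  obtain ⟨i, j, hik, hjk, hij⟩ : ∃ i j : Fin n, i ≠ k ∧ j ≠ k ∧ i ≠ j := by
    by_cases h0 : k.val = 0
    · refine ⟨⟨1, by omega⟩, ⟨2, by omega⟩, ?_, ?_, ?_⟩ <;>
      · intro h
        have := congrArg Fin.val h
        simp at this
        try omega
    · by_cases h1 : k.val = 1
      · refine ⟨⟨0, by omega⟩, ⟨2, by omega⟩, ?_, ?_, ?_⟩ <;>
        · intro h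
          have := congrArg Fin.val h
          simp at this
          try omega
      · refine ⟨⟨0, by omega⟩, ⟨1, by omega⟩, ?_, ?_, ?_⟩ <;>
        · intro h
          have := congrArg Fin.val h
          simp at this
          try omega
  obtain ⟨a1, a2, a3⟩ := hypVec_props_h22 v i k hik
  obtain ⟨b1, b2, b3⟩ := hypVec_props_h22 v j k hjk
  have hw : (v k • (Pi.single i (1 : F) : Fin n → F) - v i • (Pi.single k (1 : F) : Fin n → F)) ≠ 0 := by
    intro h
    rw [h] at a1
    exact hk' a1.symm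
  have hw' : (v k • (Pi.single j (1 : F) : Fin n → F) - v j • (Pi.single k (1 : F) : Fin n → F)) ≠ 0 := by
    intro h
    rw [h] at b1
    exact hk' b1.symm
  refine ⟨_, _, hw, hw', a3, b3, ?_⟩
  intro h
  rw [Projectivization.mk_eq_mk_iff'] at h
  obtain ⟨a, ha⟩ := h
  have h5 := congrFun ha i
  rw [Pi.smul_apply, b2 i hij hik, a1, smul_zero] at h5
  exact hk' h5.symm

end Cfsg.Agent.Helper94.Nc
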