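import Mathlib
import Cfsg.Agent.Helper94.Nc.Defs

set_option autoImplicit false
set_option linter.unusedSectionVars false
set_option linter.unusedVariables false

/-!
# (NILP) two facts on finite nilpotent groups (pure group theory)

Finite nilpotent `H`: every Sylow subgroup is normal and `H` is the internal direct product of its Sylow subgroups
(`isNilpotent_of_finite_tfae`); elements of coprime orders commute (the Sylow `p`-subgroup `S` and the normal `p'`-Hall subgroup
meet trivially and are both normal); `Z(H)` meets every nontrivial normal subgroup (`Group.IsNilpotent` upper central series), in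
particular `Z(S) ≤ Z(H)` and `Z(S) ≠ 1` for a nontrivial `p`-group `S` (`IsPGroup.center_nontrivial`), then Cauchy in `Z(S)`.
* `isPGroup_of_centralizer`: `a = a₁ a₂` with `a₁ = a ^ (m u)`, `a₂ = a ^ (p ^ k t)` the `p`-part and the `p'`-part of `a`
  (`orderOf a = p ^ k * m`, `Nat.Coprime`, Bezout); `a₂` has order prime to `p`, `x` is a `p`-element, so they commute; `hC` makes `a₂` a
  `p`-element, so `a₂ = 1` and `a = a₁` is a `p`-element.

(filled by helper37: `commute_of_coprime_orderOf_aux` is proved by the center-quotient induction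
`Group.nilpotent_center_quotient_ind`.)
-/

namespace Cfsg.Agent.Helper94.Nc

/-- in a nilpotent group, two elements of finite coprime orders commute -/
theorem commute_of_coprime_orderOf_aux (G : Type*) [Group G] [hG : Group.IsNilpotent G] :
    ∀ x y : G, IsOfFinOrder x → IsOfFinOrder y → (orderOf x).Coprime (orderOf y) → Commute x y := by
  refine Group.nilpotent_center_quotient_ind
    (P := fun G _ _ => ∀ x y : G, IsOfFinOrder x → IsOfFinOrder y →
      (orderOf x).Coprime (orderOf y) → Commute x y) G ?_ ?_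
  · intro G _ _ x y _ _ _
    exact Subsingleton.elim _ _
  · intro G _ _ ih x y hx hy hxy
    set f : G →* G ⧸ Subgroup.center G := QuotientGroup.mk' (Subgroup.center G) with hf
    have h1 : Commute (f x) (f y) := by
      apply ih (f x) (f y) (f.isOfFinOrder hx) (f.isOfFinOrder hy)
      exact Nat.Coprime.coprime_dvd_left (orderOf_map_dvd f x)
        (Nat.Coprime.coprime_dvd_right (orderOf_map_dvd f y) hxy)
    -- the commutator is central
    set z : G := x * y * x⁻¹ * y⁻¹ with hz
    have hzc : z ∈ Subgroup.center G := by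
      rw [← QuotientGroup.ker_mk' (Subgroup.center G), MonoidHom.mem_ker]
      change f z = 1
      rw [hz, map_mul, map_mul, map_mul, map_inv, map_inv, h1.eq]
      group
    have hzc' : ∀ g : G, g * z = z * g := fun g => (Subgroup.mem_center_iff.mp hzc g)
    -- `x y x⁻¹ = z y`
    have e1 : x * y * x⁻¹ = z * y := by rw [hz]; group
    have e2 : y * x⁻¹ * y⁻¹ = x⁻¹ * z := by rw [hz]; group
    have hzy : Commute z y := (hzc' y).symm
    have hzx : Commute x⁻¹ z := hzc' x⁻¹
    have p1 : z ^ orderOf y = 1 := by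
      have h2 : (x * y * x⁻¹) ^ orderOf y = 1 := by
        rw [conj_pow, pow_orderOf_eq_one]; group
      rw [e1, hzy.mul_pow, pow_orderOf_eq_one, mul_one] at h2
      exact h2
    have p2 : z ^ orderOf x = 1 := by
      have h2 : (y * x⁻¹ * y⁻¹) ^ orderOf x = 1 := by
        rw [conj_pow, inv_pow, pow_orderOf_eq_one]; group
      rw [e2, hzx.mul_pow, inv_pow, pow_orderOf_eq_one, inv_one, one_mul] at h2
      exact h2
    have hz1 : z = 1 := by
      rw [← orderOf_eq_one_iff]
      exact Nat.eq_one_of_dvd_coprimes hxy (orderOf_dvd_of_pow_eq_one p2)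
        (orderOf_dvd_of_pow_eq_one p1)
    have : x * y * x⁻¹ * y⁻¹ = 1 := hz1
    have h3 : x * y = y * x := by
      calc x * y = (x * y * x⁻¹ * y⁻¹) * (y * x) := by group
        _ = y * x := by rw [this, one_mul]
    exact h3

theorem isPGroup_of_centralizer {H : Type*} [Group H] [Finite H] (hnil : Group.IsNilpotent H)
    (p : ℕ) [Fact p.Prime] (x : H) (hx : ∃ k : ℕ, x ^ p ^ k = 1)
    (hC : ∀ y : H, Commute y x → ∃ k : ℕ, y ^ p ^ k = 1) : IsPGroup p H := by
  have hp : p.Prime := Fact.out
  obtain ⟨kx, hkx⟩ := hx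
  have hox : orderOf x ∣ p ^ kx := orderOf_dvd_of_pow_eq_one hkx
  intro a
  obtain ⟨k, m, hm, hkm⟩ := Nat.exists_eq_pow_mul_and_not_dvd (orderOf_pos a).ne' p hp.ne_one
  set a₂ : H := a ^ p ^ k with ha₂
  have h1 : a₂ ^ m = 1 := by
    rw [ha₂, ← pow_mul, ← hkm, pow_orderOf_eq_one]
  have h2 : orderOf a₂ ∣ m := orderOf_dvd_of_pow_eq_one h1
  have hcop : (m).Coprime p := ((Nat.Prime.coprime_iff_not_dvd hp).mpr hm).symm
  have hcop' : (orderOf a₂).Coprime (orderOf x) := by
    apply Nat.Coprime.coprime_dvd_left h2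
    apply Nat.Coprime.coprime_dvd_right hox
    exact Nat.Coprime.pow_right _ hcop
  have hcomm : Commute a₂ x :=
    commute_of_coprime_orderOf_aux H a₂ x (isOfFinOrder_of_finite _) (isOfFinOrder_of_finite _) hcop'
  obtain ⟨k', hk'⟩ := hC a₂ hcomm
  have h3 : orderOf a₂ ∣ p ^ k' := orderOf_dvd_of_pow_eq_one hk'
  have h4 : orderOf a₂ = 1 :=
    Nat.eq_one_of_dvd_coprimes (Nat.Coprime.pow_right k' hcop) h2 h3
  refine ⟨k, ?_⟩
  exact orderOf_eq_one_iff.mp h4

theorem exists_central_of_orderOf_prime {H : Type*} [Group H] [Finite H] (hnil : Group.IsNilpotent H)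
    (l : ℕ) (hl : l.Prime) (x : H) (hx : orderOf x = l) :
    ∃ z ∈ Subgroup.center H, orderOf z = l := by
  have : Fact l.Prime := ⟨hl⟩
  -- the Sylow `l`-subgroup
  obtain ⟨S⟩ : Nonempty (Sylow l H) := inferInstance
  have hSn : (S : Subgroup H).Normal := inferInstance
  -- every `l`-element lies in `S`
  have hmem : ∀ g : H, (∃ k : ℕ, g ^ l ^ k = 1) → g ∈ (S : Subgroup H) := by
    intro g ⟨k, hk⟩
    have hgp : IsPGroup l (Subgroup.zpowers g) := by
      rw [IsPGroup.iff_card, Nat.card_zpowers]
      obtain ⟨j, _, hj⟩ := (Nat.dvd_prime_pow hl).mp (orderOf_dvd_of_pow_eq_one hk)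
      exact ⟨j, hj⟩
    obtain ⟨Q, hQ⟩ := hgp.exists_le_sylow
    have := Sylow.unique_of_normal S hSn
    have : Q = S := Subsingleton.elim _ _
    rw [← this]
    exact hQ (Subgroup.mem_zpowers g)
  have hxS : x ∈ (S : Subgroup H) := hmem x ⟨1, by rw [pow_one, ← hx, pow_orderOf_eq_one]⟩
  have hx1 : x ≠ 1 := by
    intro h
    rw [h, orderOf_one] at hx
    exact hl.ne_one hx.symm
  have : Nontrivial (S : Subgroup H) := ⟨⟨⟨x, hxS⟩, 1, fun h => hx1 (congrArg Subtype.val h)⟩⟩
  have : Nontrivial (Subgroup.center (S : Subgroup H)) := S.isPGroup'.center_nontrivial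
  -- an element of order `l` in `Z(S)`
  have hZp : IsPGroup l (Subgroup.center (S : Subgroup H)) := S.isPGroup'.to_subgroup _
  obtain ⟨n, hn⟩ := IsPGroup.iff_card.mp hZp
  have hn0 : n ≠ 0 := by
    rintro rfl
    rw [pow_zero] at hn
    have := Finite.one_lt_card (α := Subgroup.center (S : Subgroup H))
    omega
  have hdvd : l ∣ Nat.card (Subgroup.center (S : Subgroup H)) := by
    rw [hn]; exact dvd_pow_self l hn0
  obtain ⟨z, hz⟩ := exists_prime_orderOf_dvd_card' l hdvd
  refine ⟨((z : (S : Subgroup H)) : H), ?_, ?_⟩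
  · rw [Subgroup.mem_center_iff]
    intro h
    -- decompose the order of `h`
    obtain ⟨k, m, hm, hkm⟩ := Nat.exists_eq_pow_mul_and_not_dvd (orderOf_pos h).ne' l hl.ne_one
    have hcop : (l ^ k).Coprime m :=
      Nat.Coprime.pow_left k ((Nat.Prime.coprime_iff_not_dvd hl).mpr hm)
    -- `h ^ m` is an `l`-element, so it lies in `S` and commutes with `z`
    have hA : Commute (h ^ m) ((z : (S : Subgroup H)) : H) := by
      have hin : h ^ m ∈ (S : Subgroup H) :=
        hmem _ ⟨k, by rw [← pow_mul, mul_comm, ← hkm, pow_orderOf_eq_one]⟩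
      have := Subgroup.mem_center_iff.mp z.2 ⟨h ^ m, hin⟩
      have := congrArg Subtype.val this
      exact this
    -- `h ^ (l ^ k)` has order prime to `l`, so it commutes with `z`
    have hB : Commute (h ^ l ^ k) ((z : (S : Subgroup H)) : H) := by
      apply commute_of_coprime_orderOf_aux H _ _ (isOfFinOrder_of_finite _) (isOfFinOrder_of_finite _)
      have h1 : orderOf (h ^ l ^ k) ∣ m := by
        apply orderOf_dvd_of_pow_eq_one
        rw [← pow_mul, ← hkm, pow_orderOf_eq_one]
      have h2 : orderOf ((z : (S : Subgroup H)) : H) = l := by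
        rw [Subgroup.orderOf_coe, Subgroup.orderOf_coe]; exact hz
      rw [h2]
      exact Nat.Coprime.coprime_dvd_left h1 ((Nat.Prime.coprime_iff_not_dvd hl).mpr hm).symm
    -- Bezout
    have hgcd : Nat.gcd (l ^ k) m = 1 := hcop
    have hbez := Nat.gcd_eq_gcd_ab (l ^ k) m
    rw [hgcd] at hbez
    have hh : h = (h ^ l ^ k) ^ (Nat.gcdA (l ^ k) m) * (h ^ m) ^ (Nat.gcdB (l ^ k) m) := by
      rw [← zpow_natCast h (l ^ k), ← zpow_natCast h m, ← zpow_mul, ← zpow_mul, ← zpow_add, ← hbez]
      simp
    have hcomm : Commute h ((z : (S : Subgroup H)) : H) := by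
      rw [hh]
      exact (hB.zpow_left _).mul_left (hA.zpow_left _)
    exact hcomm.eq
  · rw [Subgroup.orderOf_coe, Subgroup.orderOf_coe]; exact hz

end Cfsg.Agent.Helper94.Nc
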