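import Mathlib
import Cfsg.Agent.Helper94.Nc.Defs

set_option autoImplicit false
set_option linter.unusedSectionVars false
set_option linter.unusedVariables false

/-!
# (REPL) replacing part of a minimal cover (pure finset / subgroup lemma)

`𝓑 := PS ∪ (𝓐 \ 𝓐₁)` (classical `DecidableEq`) is a cover by proper subgroups: an element covered by `A ∈ 𝓐₁` lies in some
`B ∈ PS` with `A ≤ B`.  Minimality: `𝓐.card ≤ 𝓑.card ≤ PS.card + (𝓐.card - 𝓐₁.card)` (`Finset.card_union_le`, `Finset.card_sdiff`),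
hence `𝓐₁.card ≤ PS.card` (`𝓐₁ ⊆ 𝓐` gives `𝓐₁.card ≤ 𝓐.card`).
-/

namespace Cfsg.Agent.Helper94.Nc

theorem card_le_of_replace {H : Type*} [Group H] (𝓐 : Finset (Subgroup H))
    (hcov : ∀ g : H, ∃ A ∈ 𝓐, g ∈ A)
    (hmin : ∀ 𝓑 : Finset (Subgroup H), (∀ B ∈ 𝓑, B ≠ ⊤) ∧ (∀ g : H, ∃ B ∈ 𝓑, g ∈ B) → 𝓐.card ≤ 𝓑.card)
    (hprop : ∀ A ∈ 𝓐, A ≠ ⊤)
    (PS 𝓐₁ : Finset (Subgroup H)) (hPS : ∀ B ∈ PS, B ≠ ⊤) (h₁ : 𝓐₁ ⊆ 𝓐)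
    (h : ∀ A ∈ 𝓐₁, ∃ B ∈ PS, A ≤ B) : 𝓐₁.card ≤ PS.card := by
  classical
  have hB := hmin (PS ∪ (𝓐 \ 𝓐₁)) ⟨?_, ?_⟩
  · have h1 := Finset.card_union_le PS (𝓐 \ 𝓐₁)
    have h2 : (𝓐 \ 𝓐₁).card = 𝓐.card - 𝓐₁.card := Finset.card_sdiff_of_subset h₁
    have h3 : 𝓐₁.card ≤ 𝓐.card := Finset.card_le_card h₁
    omega
  · intro B hB
    rcases Finset.mem_union.1 hB with hB | hB
    · exact hPS B hB
    · exact hprop B (Finset.mem_sdiff.1 hB).1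
  · intro g
    obtain ⟨A, hA, hgA⟩ := hcov g
    by_cases hA1 : A ∈ 𝓐₁
    · obtain ⟨B, hB, hAB⟩ := h A hA1
      exact ⟨B, Finset.mem_union_left _ hB, hAB hgA⟩
    · exact ⟨A, Finset.mem_union_right _ (Finset.mem_sdiff.2 ⟨hA, hA1⟩), hgA⟩

end Cfsg.Agent.Helper94.Nc
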