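import Mathlib
import Cfsg.Agent.Helper94.Nc.Defs

set_option autoImplicit false
set_option linter.unusedSectionVars false
set_option linter.unusedVariables false

/-!
# (STAB) point stabilizers are proper subgroups of `G ≥ PSL_n`

`n ≥ 2`: the projective space has two distinct points (`[e₀] ≠ [e₁]`); `SL_n(F)` is transitive on `ℙ F (Fin n → F)`
(Mathlib `Mathlib/LinearAlgebra/Projectivization/Action.lean`: `IsMultiplyPretransitive (Matrix.SpecialLinearGroup ι K) (ℙ K (ι → K)) 2`,
`matrixSpecialLinearGroup_smul_def`); for `s : SL` the element `⟨QuotientGroup.mk (toGL s), hG (mk_mem_slImage s)⟩ : ↥G` acts as `s`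
(`mk_smul_mk` in `Defs` is `rfl`; `Projectivization.ind`).  So some element of `G` moves `pt`.
-/

namespace Cfsg.Agent.Helper94.Nc

open Matrix Projectivization
open scoped LinearAlgebra.Projectivization

/-- auxiliary (helper22): the image of `s : SL` in `PG` acts as `s` -/
theorem mk_toGL_smul_h22 {F : Type*} [Field F] {n : ℕ} (s : Matrix.SpecialLinearGroup (Fin n) F)
    (pt : ℙ F (Fin n → F)) :
    (QuotientGroup.mk (Matrix.SpecialLinearGroup.toGL s) : PG n F) • pt = s • pt := by
  induction pt using Projectivization.ind with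
  | h v hv => rfl

/-- auxiliary (helper22): two distinct points for `n ≥ 2` -/
theorem exists_ne_point_h22 {F : Type*} [Field F] {n : ℕ} (hn : 2 ≤ n) (pt : ℙ F (Fin n → F)) :
    ∃ pt' : ℙ F (Fin n → F), pt' ≠ pt := by
  have h0 : (Pi.single (⟨0, by omega⟩ : Fin n) (1 : F) : Fin n → F) ≠ 0 := by
    intro h
    have := congrFun h ⟨0, by omega⟩
    simp at this
  have h1 : (Pi.single (⟨1, by omega⟩ : Fin n) (1 : F) : Fin n → F) ≠ 0 := by
    intro h
    have := congrFun h ⟨1, by omega⟩
    simp at this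
  have hne : Projectivization.mk F _ h0 ≠ Projectivization.mk F _ h1 := by
    intro h
    rw [Projectivization.mk_eq_mk_iff'] at h
    obtain ⟨a, ha⟩ := h
    have := congrFun ha ⟨0, by omega⟩
    simp at this
  by_cases h : Projectivization.mk F _ h0 = pt
  · refine ⟨Projectivization.mk F _ h1, ?_⟩
    rw [← h]
    exact hne.symm
  · exact ⟨_, h⟩

theorem stabilizer_ne_top {F : Type*} [Field F] {n : ℕ} (hn : 2 ≤ n) (G : Subgroup (PG n F))
    (hG : slImage n F ≤ G) (pt : ℙ F (Fin n → F)) : MulAction.stabilizer ↥G pt ≠ ⊤ := by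
  intro htop
  obtain ⟨pt', hpt'⟩ := exists_ne_point_h22 hn pt
  have : MulAction.IsPretransitive (Matrix.SpecialLinearGroup (Fin n) F) (ℙ F (Fin n → F)) :=
    (Projectivization.prePrimitive_SL (ι := Fin n) (K := F)).toIsPretransitive
  obtain ⟨s, hs⟩ := MulAction.exists_smul_eq (Matrix.SpecialLinearGroup (Fin n) F) pt pt'
  have hx : (⟨QuotientGroup.mk (Matrix.SpecialLinearGroup.toGL s), hG (mk_mem_slImage s)⟩ : ↥G) ∈
      MulAction.stabilizer ↥G pt := by
    rw [htop]
    exact Subgroup.mem_top _
  rw [MulAction.mem_stabilizer_iff] at hx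
  have h2 : (QuotientGroup.mk (Matrix.SpecialLinearGroup.toGL s) : PG n F) • pt = pt := hx
  rw [mk_toGL_smul_h22, hs] at h2
  exact hpt' h2

end Cfsg.Agent.Helper94.Nc
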