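import Mathlib
import Cfsg.Agent.Helper94.Nc.Defs

set_option autoImplicit false
set_option linter.unusedSectionVars false
set_option linter.unusedVariables false

/-!
# (TRANS) `GL_n(F)` is transitive on incident point-hyperplane pairs

Columns of `g` in a basis `b` adapted to `(v₀, w₀)`: it suffices to treat `v₀ = e_0`, `w₀ = e_{n-1}` and compose two such
(`g := g₂ * g₁⁻¹`), or directly: `ker w` (`w` as the functional `x ↦ w ⬝ᵥ x`) has dimension `n - 1` and contains `v ≠ 0`; extend `v` to a basis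
`v = c_0, c_1, …, c_{n-2}` of `ker w` and add `c_{n-1} ∉ ker w`: a basis of `F ^ n`; same for `(v₀, w₀)`: `d_0 = v₀, …`; `g` the linear
automorphism `d_i ↦ c_i`.  Then `g v₀ = v` and `w ᵥ* g` (the functional `x ↦ w ⬝ᵥ g x`) kills `d_0, …, d_{n-2}`, i.e. `ker w₀`, hence is a
multiple of `w₀` (nonzero since `g` is invertible and `w ≠ 0`).

Proof actually used (helper35): two transvections `1 + x yᵀ` (`y ⬝ᵥ x = 0`, inverse `1 - x yᵀ`).  First `g₁ v₀ = a v`
(`y` with `y ⬝ᵥ v₀ ≠ 0`, `y ⬝ᵥ v ≠ 0`), then `h` fixing `v₀` and moving `w' = w ᵥ* g₁` to `b w₀`.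
-/

namespace Cfsg.Agent.Helper94.Nc

open Matrix

/-- the unit `1 + x yᵀ` when `y ⬝ᵥ x = 0` -/
def transUnit {F : Type*} [Field F] {n : ℕ} (x y : Fin n → F) (h : y ⬝ᵥ x = 0) : GL (Fin n) F where
  val := 1 + vecMulVec x y
  inv := 1 - vecMulVec x y
  val_inv := by
    have hVV : vecMulVec x y * vecMulVec x y = 0 := by
      rw [vecMulVec_mul_vecMulVec, h, zero_smul]
      ext i j
      simp [vecMulVec_apply]
    calc (1 + vecMulVec x y) * (1 - vecMulVec x y)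
        = 1 - vecMulVec x y * vecMulVec x y := by noncomm_ring
      _ = 1 := by rw [hVV, sub_zero]
  inv_val := by
    have hVV : vecMulVec x y * vecMulVec x y = 0 := by
      rw [vecMulVec_mul_vecMulVec, h, zero_smul]
      ext i j
      simp [vecMulVec_apply]
    calc (1 - vecMulVec x y) * (1 + vecMulVec x y)
        = 1 - vecMulVec x y * vecMulVec x y := by noncomm_ring
      _ = 1 := by rw [hVV, sub_zero]

theorem transUnit_mulVec {F : Type*} [Field F] {n : ℕ} (x y : Fin n → F) (h : y ⬝ᵥ x = 0)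
    (z : Fin n → F) : (transUnit x y h).1 *ᵥ z = z + (y ⬝ᵥ z) • x := by
  change (1 + vecMulVec x y) *ᵥ z = _
  rw [add_mulVec, one_mulVec, vecMulVec_mulVec, op_smul_eq_smul]

theorem transUnit_vecMul {F : Type*} [Field F] {n : ℕ} (x y : Fin n → F) (h : y ⬝ᵥ x = 0)
    (w : Fin n → F) : w ᵥ* (transUnit x y h).1 = w + (w ⬝ᵥ x) • y := by
  change w ᵥ* (1 + vecMulVec x y) = _
  rw [vecMul_add, vecMul_one, vecMul_vecMulVec]

theorem exists_dot_ne_zero {F : Type*} [Field F] {n : ℕ} (p q : Fin n → F) (hp : p ≠ 0)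
    (hq : q ≠ 0) : ∃ y : Fin n → F, y ⬝ᵥ p ≠ 0 ∧ y ⬝ᵥ q ≠ 0 := by
  obtain ⟨i, hi⟩ : ∃ i, p i ≠ 0 := by
    by_contra hcon
    exact hp (funext fun i => by
      by_contra hi
      exact hcon ⟨i, hi⟩)
  obtain ⟨j, hj⟩ : ∃ j, q j ≠ 0 := by
    by_contra hcon
    exact hq (funext fun j => by
      by_contra hj
      exact hcon ⟨j, hj⟩)
  by_cases hqi : q i = 0
  · by_cases hpj : p j = 0
    · refine ⟨Pi.single i 1 + Pi.single j 1, ?_, ?_⟩
      · rw [add_dotProduct, single_dotProduct, single_dotProduct, hpj]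
        simpa using hi
      · rw [add_dotProduct, single_dotProduct, single_dotProduct, hqi]
        simpa using hj
    · refine ⟨Pi.single j 1, ?_, ?_⟩
      · rw [single_dotProduct]
        simpa using hpj
      · rw [single_dotProduct]
        simpa using hj
  · refine ⟨Pi.single i 1, ?_, ?_⟩
    · rw [single_dotProduct]
      simpa using hi
    · rw [single_dotProduct]
      simpa using hqi

theorem exists_gl_flag {F : Type*} [Field F] {n : ℕ} (hn : 2 ≤ n) (v₀ w₀ v w : Fin n → F)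
    (hv₀ : v₀ ≠ 0) (hw₀ : w₀ ≠ 0) (h₀ : w₀ ⬝ᵥ v₀ = 0) (hv : v ≠ 0) (hw : w ≠ 0) (h : w ⬝ᵥ v = 0) :
    ∃ (g : GL (Fin n) F) (a b : F), a ≠ 0 ∧ b ≠ 0 ∧ g.1 *ᵥ v₀ = a • v ∧ w ᵥ* g.1 = b • w₀ := by
  -- first transvection
  obtain ⟨y, hy0, hy1⟩ := exists_dot_ne_zero v₀ v hv₀ hv
  set α := y ⬝ᵥ v₀ with hα
  set β := y ⬝ᵥ v with hβ
  have ha : α / β ≠ 0 := div_ne_zero hy0 hy1
  have h1 : (α⁻¹ • y) ⬝ᵥ ((α / β) • v - v₀) = 0 := by
    rw [smul_dotProduct, dotProduct_sub, dotProduct_smul, ← hα, ← hβ]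
    simp only [smul_eq_mul]
    field_simp
    ring
  set g₁ := transUnit ((α / β) • v - v₀) (α⁻¹ • y) h1 with hg₁
  have hg₁v : g₁.1 *ᵥ v₀ = (α / β) • v := by
    rw [hg₁, transUnit_mulVec, smul_dotProduct, ← hα]
    have : α⁻¹ • α = (1 : F) := by
      simp only [smul_eq_mul]
      exact inv_mul_cancel₀ hy0
    rw [this, one_smul]
    abel
  -- the transported functional
  set w' := w ᵥ* g₁.1 with hw'
  have hw'0 : w' ⬝ᵥ v₀ = 0 := by
    rw [hw', ← dotProduct_mulVec, hg₁v, dotProduct_smul, h, smul_zero]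
  have hw'ne : w' ≠ 0 := by
    intro hcon
    apply hw
    have h2 : w' ᵥ* (g₁⁻¹).1 = w := by
      rw [hw', vecMul_vecMul]
      have : g₁.1 * (g₁⁻¹).1 = 1 := by
        rw [← Units.val_mul, mul_inv_cancel, Units.val_one]
      rw [this, vecMul_one]
    rw [← h2, hcon, zero_vecMul]
  -- second transvection
  obtain ⟨x, hx0, hx1⟩ := exists_dot_ne_zero w' w₀ hw'ne hw₀
  rw [dotProduct_comm] at hx0 hx1
  set γ := w' ⬝ᵥ x with hγ
  set δ := w₀ ⬝ᵥ x with hδ
  have hb : γ / δ ≠ 0 := div_ne_zero hx0 hx1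
  have h2 : (γ⁻¹ • ((γ / δ) • w₀ - w')) ⬝ᵥ x = 0 := by
    rw [smul_dotProduct, sub_dotProduct, smul_dotProduct, ← hγ, ← hδ]
    simp only [smul_eq_mul]
    field_simp
    ring
  set hh := transUnit x (γ⁻¹ • ((γ / δ) • w₀ - w')) h2 with hhh
  have hhv : hh.1 *ᵥ v₀ = v₀ := by
    rw [hhh, transUnit_mulVec, smul_dotProduct, sub_dotProduct, smul_dotProduct, h₀, hw'0]
    simp
  have hhw : w' ᵥ* hh.1 = (γ / δ) • w₀ := by
    rw [hhh, transUnit_vecMul, ← hγ, smul_smul, mul_inv_cancel₀ hx0, one_smul]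
    abel
  refine ⟨g₁ * hh, α / β, γ / δ, ha, hb, ?_, ?_⟩
  · rw [Units.val_mul, ← mulVec_mulVec, hhv, hg₁v]
  · rw [Units.val_mul, ← vecMul_vecMul, ← hw', hhw]

end Cfsg.Agent.Helper94.Nc
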