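import Mathlib
import Cfsg.Agent.Helper94.Nc.Defs

set_option autoImplicit false
set_option linter.unusedSectionVars false
set_option linter.unusedVariables false

/-!
# (U0) a regular unipotent element of `SL_n(F)`

`u = 1 + N`, `N = ∑ E_{i,i+1}` (`N e_{i+1} = e_i`, `N e_0 = 0`; upper unitriangular so `det u = 1`), `v₀ = e_0`, `w₀ = e_{n-1}`
(`w₀ ⬝ᵥ v₀ = 0` since `n ≥ 2`).  `N ^ n = 0`, so `u ^ (p ^ k) = 1 + N ^ (p ^ k) = 1` once `p ^ k ≥ n` (`add_pow_char_pow_of_commute`).
Eigenvectors: `u v = c v` with `v ≠ 0`: `(u - 1) ^ n = 0` forces `c = 1`, then `N v = 0`, i.e. `v i = 0` for `i ≥ 1`.  Same for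
`w ᵥ* u = c • w`: `w ᵥ* N = 0`, i.e. `w i = 0` for `i < n - 1`.
Centralizer mod scalars: `g u = c (u g)` gives `g u g⁻¹ = c u`, unipotent, so `c = 1` (`c (u - 1) + (c - 1)` is nilpotent only if `c = 1`);
`g` commutes with `N`, and `e_{n-1}` is a cyclic vector (`N ^ j e_{n-1} = e_{n-1-j}`): `g e_{n-1} = ∑ a_j N ^ j e_{n-1}` gives
`g = ∑ a_j N ^ j = a₀ + N'` with `N'` nilpotent commuting, and `g ^ (p ^ k) = a₀ ^ (p ^ k)` for `p ^ k ≥ n`.

Proof actually used (helper35): `c = 1` from the eigenvector `g e_0` of `u`; `g N = N g` entrywise makes `g` upper triangular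
Toeplitz, so `g - g₀₀` is strictly upper triangular, hence nilpotent (`U0_pow_eq_zero`).
-/

namespace Cfsg.Agent.Helper94.Nc

open Matrix

section U0aux

variable {F : Type*} [Field F] {n : ℕ}

/-- extension by zero of a vector to all natural indices -/
def U0ext (v : Fin n → F) (k : ℕ) : F := if h : k < n then v ⟨k, h⟩ else 0

theorem U0ext_val (v : Fin n → F) (i : Fin n) : U0ext v i.val = v i := by
  unfold U0ext
  rw [dif_pos i.isLt]

theorem U0ext_of_lt (v : Fin n → F) {k : ℕ} (h : k < n) : U0ext v k = v ⟨k, h⟩ := by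
  unfold U0ext
  rw [dif_pos h]

theorem U0ext_of_le (v : Fin n → F) {k : ℕ} (h : n ≤ k) : U0ext v k = 0 := by
  unfold U0ext
  rw [dif_neg (by omega)]

/-- the nilpotent Jordan block -/
def U0N (F : Type*) [Field F] (n : ℕ) : Matrix (Fin n) (Fin n) F :=
  Matrix.of fun i j => if j.val = i.val + 1 then 1 else 0

theorem U0N_apply (i j : Fin n) : U0N F n i j = if j.val = i.val + 1 then 1 else 0 := rfl

theorem U0_sumA (f : Fin n → F) (i : Fin n) :
    ∑ l : Fin n, (if l.val = i.val + 1 then (1 : F) else 0) * f l = U0ext f (i.val + 1) := by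
  by_cases h : i.val + 1 < n
  · rw [U0ext_of_lt f h, Finset.sum_eq_single (⟨i.val + 1, h⟩ : Fin n)]
    · rw [if_pos rfl, one_mul]
    · intro l _ hl
      have : l.val ≠ i.val + 1 := fun hh => hl (Fin.ext hh)
      rw [if_neg this, zero_mul]
    · intro hh
      exact absurd (Finset.mem_univ _) hh
  · rw [U0ext_of_le f (by omega)]
    apply Finset.sum_eq_zero
    intro l _
    have : l.val ≠ i.val + 1 := by
      have := l.isLt
      omega
    rw [if_neg this, zero_mul]

theorem U0_sumB (f : Fin n → F) (j : Fin n) :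
    ∑ l : Fin n, f l * (if j.val = l.val + 1 then (1 : F) else 0) =
      if j.val = 0 then 0 else U0ext f (j.val - 1) := by
  by_cases h : j.val = 0
  · rw [if_pos h]
    apply Finset.sum_eq_zero
    intro l _
    have : j.val ≠ l.val + 1 := by omega
    rw [if_neg this, mul_zero]
  · rw [if_neg h]
    have hlt : j.val - 1 < n := by
      have := j.isLt
      omega
    rw [U0ext_of_lt f hlt, Finset.sum_eq_single (⟨j.val - 1, hlt⟩ : Fin n)]
    · have : j.val = (⟨j.val - 1, hlt⟩ : Fin n).val + 1 := by
        show j.val = j.val - 1 + 1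
        omega
      rw [if_pos this, mul_one]
    · intro l _ hl
      have : j.val ≠ l.val + 1 := by
        intro hh
        apply hl
        apply Fin.ext
        show l.val = j.val - 1
        omega
      rw [if_neg this, mul_zero]
    · intro hh
      exact absurd (Finset.mem_univ _) hh

theorem U0N_mulVec (v : Fin n → F) (i : Fin n) : (U0N F n *ᵥ v) i = U0ext v (i.val + 1) := by
  rw [← U0_sumA v i]
  rfl

theorem U0N_vecMul (w : Fin n → F) (j : Fin n) :
    (w ᵥ* U0N F n) j = if j.val = 0 then 0 else U0ext w (j.val - 1) := by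
  rw [← U0_sumB w j]
  rfl

theorem U0N_mul (M : Matrix (Fin n) (Fin n) F) (i j : Fin n) :
    (U0N F n * M) i j = U0ext (fun l => M l j) (i.val + 1) := by
  rw [← U0_sumA (fun l => M l j) i, Matrix.mul_apply]
  rfl

theorem U0_mul_N (M : Matrix (Fin n) (Fin n) F) (i j : Fin n) :
    (M * U0N F n) i j = if j.val = 0 then 0 else U0ext (M i) (j.val - 1) := by
  rw [← U0_sumB (M i) j, Matrix.mul_apply]
  rfl

/-- powers of a strictly upper triangular matrix -/
theorem U0_pow_apply_zero {A : Matrix (Fin n) (Fin n) F}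
    (hA : ∀ i j : Fin n, j.val < i.val + 1 → A i j = 0) :
    ∀ (m : ℕ) (i j : Fin n), j.val < i.val + m → (A ^ m) i j = 0 := by
  intro m
  induction m with
  | zero =>
    intro i j hij
    rw [pow_zero, Matrix.one_apply, if_neg]
    intro h
    rw [h] at hij
    omega
  | succ m ih =>
    intro i j hij
    rw [pow_succ, Matrix.mul_apply]
    apply Finset.sum_eq_zero
    intro l _
    by_cases hl : l.val < i.val + m
    · rw [ih i l hl, zero_mul]
    · rw [hA l j (by omega), mul_zero]

theorem U0_pow_eq_zero {A : Matrix (Fin n) (Fin n) F}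
    (hA : ∀ i j : Fin n, j.val < i.val + 1 → A i j = 0) : A ^ n = 0 := by
  ext i j
  rw [U0_pow_apply_zero hA n i j (by
    have := j.isLt
    omega)]
  rfl

theorem U0N_strict (i j : Fin n) (h : j.val < i.val + 1) : U0N F n i j = 0 := by
  rw [U0N_apply, if_neg (by omega)]

/-- `p ^ n`-th powers of `a + A`, `A` strictly upper triangular -/
theorem U0_pow_char (p : ℕ) [Fact p.Prime] [CharP F p] (hn : 2 ≤ n) (a : F)
    {A : Matrix (Fin n) (Fin n) F} (hA : ∀ i j : Fin n, j.val < i.val + 1 → A i j = 0) :
    (a • (1 : Matrix (Fin n) (Fin n) F) + A) ^ p ^ n = (a ^ p ^ n) • (1 : Matrix (Fin n) (Fin n) F) := by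
  have : Nonempty (Fin n) := ⟨⟨0, by omega⟩⟩
  have hcomm : Commute (a • (1 : Matrix (Fin n) (Fin n) F)) A := by
    rw [Commute, SemiconjBy, smul_mul_assoc, one_mul, mul_smul_comm, mul_one]
  rw [add_pow_char_pow_of_commute p n hcomm, smul_pow, one_pow]
  have hle : n ≤ p ^ n := (Nat.lt_pow_self (Fact.out : p.Prime).one_lt).le
  rw [pow_eq_zero_of_le hle (U0_pow_eq_zero hA), add_zero]

/-- right eigenvectors of `1 + N` -/
theorem U0_eigen (v : Fin n → F) (c : F) (hv : v ≠ 0)
    (h : (1 + U0N F n) *ᵥ v = c • v) : c = 1 ∧ ∀ i : Fin n, 1 ≤ i.val → v i = 0 := by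
  have hrow : ∀ i : Fin n, v i + U0ext v (i.val + 1) = c * v i := by
    intro i
    have := congrFun h i
    rw [add_mulVec, one_mulVec, Pi.add_apply, U0N_mulVec, Pi.smul_apply, smul_eq_mul] at this
    exact this
  have hc : c = 1 := by
    by_contra hc
    apply hv
    have hQ : ∀ d : ℕ, ∀ i : Fin n, n ≤ i.val + d → v i = 0 := by
      intro d
      induction d with
      | zero =>
        intro i hi
        have := i.isLt
        omega
      | succ d ih =>
        intro i hi
        have hN : U0ext v (i.val + 1) = 0 := by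
          by_cases hlt : i.val + 1 < n
          · rw [U0ext_of_lt v hlt]
            exact ih ⟨i.val + 1, hlt⟩ (by
              show n ≤ i.val + 1 + d
              omega)
          · exact U0ext_of_le v (by omega)
        have h1 := hrow i
        rw [hN, add_zero] at h1
        have h2 : (1 - c) * v i = 0 := by
          rw [sub_mul, one_mul, ← h1, sub_self]
        rcases mul_eq_zero.mp h2 with h3 | h3
        · exact absurd (sub_eq_zero.mp h3).symm hc
        · exact h3
    funext i
    exact hQ n i (by omega)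
  refine ⟨hc, ?_⟩
  intro i hi
  have hlt : (i.val - 1) + 1 < n := by
    have := i.isLt
    omega
  have h1 := hrow ⟨i.val - 1, by
    have := i.isLt
    omega⟩
  rw [hc, one_mul] at h1
  have h2 : U0ext v ((i.val - 1) + 1) = 0 := by
    have := add_left_cancel (a := v ⟨i.val - 1, by
      have := i.isLt
      omega⟩) (b := U0ext v ((i.val - 1) + 1)) (c := 0) (by rw [add_zero]; exact h1)
    exact this
  rw [U0ext_of_lt v hlt] at h2
  have : (⟨(i.val - 1) + 1, hlt⟩ : Fin n) = i := by
    apply Fin.ext
    show i.val - 1 + 1 = i.val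
    omega
  rw [this] at h2
  exact h2

/-- left eigenvectors of `1 + N` -/
theorem U0_eigen_left (w : Fin n → F) (c : F) (hw : w ≠ 0)
    (h : w ᵥ* (1 + U0N F n) = c • w) : c = 1 ∧ ∀ i : Fin n, i.val + 1 < n → w i = 0 := by
  have hrow : ∀ j : Fin n, w j + (if j.val = 0 then 0 else U0ext w (j.val - 1)) = c * w j := by
    intro j
    have := congrFun h j
    rw [vecMul_add, vecMul_one, Pi.add_apply, U0N_vecMul, Pi.smul_apply, smul_eq_mul] at this
    exact this
  have hc : c = 1 := by
    by_contra hc
    apply hw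
    have hQ : ∀ d : ℕ, ∀ j : Fin n, j.val < d → w j = 0 := by
      intro d
      induction d with
      | zero =>
        intro j hj
        omega
      | succ d ih =>
        intro j hj
        have hN : (if j.val = 0 then 0 else U0ext w (j.val - 1)) = 0 := by
          by_cases h0 : j.val = 0
          · rw [if_pos h0]
          · rw [if_neg h0]
            have hlt : j.val - 1 < n := by
              have := j.isLt
              omega
            rw [U0ext_of_lt w hlt]
            exact ih ⟨j.val - 1, hlt⟩ (by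
              show j.val - 1 < d
              omega)
        have h1 := hrow j
        rw [hN, add_zero] at h1
        have h2 : (1 - c) * w j = 0 := by
          rw [sub_mul, one_mul, ← h1, sub_self]
        rcases mul_eq_zero.mp h2 with h3 | h3
        · exact absurd (sub_eq_zero.mp h3).symm hc
        · exact h3
    funext j
    exact hQ n j j.isLt
  refine ⟨hc, ?_⟩
  intro i hi
  have h1 := hrow ⟨i.val + 1, hi⟩
  rw [hc, one_mul] at h1
  have h0 : ¬ (⟨i.val + 1, hi⟩ : Fin n).val = 0 := by
    show ¬ i.val + 1 = 0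
    omega
  rw [if_neg h0] at h1
  have h2 : U0ext w ((⟨i.val + 1, hi⟩ : Fin n).val - 1) = 0 := by
    have := add_left_cancel (a := w ⟨i.val + 1, hi⟩)
      (b := U0ext w ((⟨i.val + 1, hi⟩ : Fin n).val - 1)) (c := 0) (by rw [add_zero]; exact h1)
    exact this
  have h3 : (⟨i.val + 1, hi⟩ : Fin n).val - 1 = i.val := by
    show i.val + 1 - 1 = i.val
    omega
  rw [h3, U0ext_val] at h2
  exact h2

/-- a matrix commuting with `N` is upper triangular Toeplitz -/
theorem U0_toeplitz (hn : 2 ≤ n) (g : Matrix (Fin n) (Fin n) F)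
    (hg : g * U0N F n = U0N F n * g) :
    ∀ (m : ℕ) (i j : Fin n), j.val = m → j.val ≤ i.val →
      g i j = if i.val = j.val then g ⟨0, by omega⟩ ⟨0, by omega⟩ else 0 := by
  have hstar : ∀ i j : Fin n, (if j.val = 0 then 0 else U0ext (g i) (j.val - 1)) =
      U0ext (fun l => g l j) (i.val + 1) := by
    intro i j
    rw [← U0_mul_N, ← U0N_mul, hg]
  intro m
  induction m with
  | zero =>
    intro i j hj hji
    by_cases hi : i.val = j.val
    · rw [if_pos hi]
      have e1 : i = ⟨0, by omega⟩ := Fin.ext (by rw [hi, hj])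
      have e2 : j = ⟨0, by omega⟩ := Fin.ext hj
      rw [e1, e2]
    · rw [if_neg hi]
      have hi1 : (i.val - 1) + 1 < n := by
        have := i.isLt
        omega
      have h1 := hstar ⟨i.val - 1, by
        have := i.isLt
        omega⟩ j
      rw [if_pos hj] at h1
      have h2 : (⟨i.val - 1, by
        have := i.isLt
        omega⟩ : Fin n).val + 1 = i.val := by
        show i.val - 1 + 1 = i.val
        omega
      rw [h2, U0ext_val] at h1
      exact h1.symm
  | succ m ih =>
    intro i j hj hji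
    have hj1 : j.val - 1 < n := by
      have := j.isLt
      omega
    have hi1 : i.val - 1 < n := by
      have := i.isLt
      omega
    have h1 := hstar ⟨i.val - 1, hi1⟩ j
    have hj0 : ¬ j.val = 0 := by omega
    rw [if_neg hj0, U0ext_of_lt _ hj1] at h1
    have h2 : (⟨i.val - 1, hi1⟩ : Fin n).val + 1 = i.val := by
      show i.val - 1 + 1 = i.val
      omega
    rw [h2, U0ext_val] at h1
    rw [← h1, ih ⟨i.val - 1, hi1⟩ ⟨j.val - 1, hj1⟩ (by
      show j.val - 1 = m
      omega) (by
      show j.val - 1 ≤ i.val - 1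
      omega)]
    have h3 : ((⟨i.val - 1, hi1⟩ : Fin n).val = (⟨j.val - 1, hj1⟩ : Fin n).val) ↔ i.val = j.val := by
      show i.val - 1 = j.val - 1 ↔ i.val = j.val
      omega
    simp only [h3]

end U0aux

theorem exists_regular_unipotent {F : Type*} [Field F] {n : ℕ} (p : ℕ) [Fact p.Prime] [CharP F p]
    (hn : 2 ≤ n) :
    ∃ (u : Matrix.SpecialLinearGroup (Fin n) F) (v₀ w₀ : Fin n → F), v₀ ≠ 0 ∧ w₀ ≠ 0 ∧ w₀ ⬝ᵥ v₀ = 0 ∧
      (∃ k : ℕ, u ^ p ^ k = 1) ∧
      (∀ (v : Fin n → F) (c : F), v ≠ 0 → u.1 *ᵥ v = c • v → ∃ a : F, v = a • v₀) ∧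
      (∀ (w : Fin n → F) (c : F), w ≠ 0 → w ᵥ* u.1 = c • w → ∃ a : F, w = a • w₀) ∧
      (∀ (g : GL (Fin n) F) (c : F), g.1 * u.1 = c • (u.1 * g.1) →
        ∃ (k : ℕ) (a : F), g.1 ^ p ^ k = a • (1 : Matrix (Fin n) (Fin n) F)) := by
  have h0n : 0 < n := by omega
  have hlast : n - 1 < n := by omega
  set i0 : Fin n := ⟨0, h0n⟩ with hi0
  set il : Fin n := ⟨n - 1, hlast⟩ with hil
  -- determinant
  have hdet : (1 + U0N F n).det = 1 := by
    have hup : (1 + U0N F n).IsUpperTriangular := by
      intro i j hij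
      have hij' : j.val < i.val := hij
      rw [Matrix.add_apply, Matrix.one_apply, if_neg (by
        intro hh
        rw [hh] at hij'
        omega), U0N_strict i j (by omega), add_zero]
    rw [Matrix.det_of_isUpperTriangular hup]
    apply Finset.prod_eq_one
    intro i _
    rw [Matrix.add_apply, Matrix.one_apply, if_pos rfl, U0N_strict i i (by omega), add_zero]
  obtain ⟨u, hu⟩ : ∃ u : Matrix.SpecialLinearGroup (Fin n) F, u.1 = 1 + U0N F n :=
    ⟨⟨1 + U0N F n, hdet⟩, rfl⟩
  refine ⟨u, Pi.single i0 1, Pi.single il 1, ?_, ?_, ?_, ?_, ?_, ?_, ?_⟩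
  · intro h
    have := congrFun h i0
    simp at this
  · intro h
    have := congrFun h il
    simp at this
  · rw [single_dotProduct, one_mul, Pi.single_apply, if_neg]
    intro h
    have := congrArg Fin.val h
    simp only [hi0, hil] at this
    omega
  · refine ⟨n, ?_⟩
    have h1 := U0_pow_char (F := F) p hn 1 (A := U0N F n) U0N_strict
    rw [one_smul, one_pow, one_smul] at h1
    have h2 : (u ^ p ^ n).1 = (1 : Matrix.SpecialLinearGroup (Fin n) F).1 := by
      rw [Matrix.SpecialLinearGroup.coe_pow, hu]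
      exact h1
    exact Subtype.ext h2
  · intro v c hv h
    rw [hu] at h
    obtain ⟨_, hz⟩ := U0_eigen v c hv h
    refine ⟨v i0, ?_⟩
    funext i
    rw [Pi.smul_apply, smul_eq_mul, Pi.single_apply]
    by_cases hi : i = i0
    · rw [if_pos hi, mul_one, hi]
    · rw [if_neg hi, mul_zero]
      apply hz
      by_contra hcon
      apply hi
      apply Fin.ext
      show i.val = 0
      omega
  · intro w c hw h
    rw [hu] at h
    obtain ⟨_, hz⟩ := U0_eigen_left w c hw h
    refine ⟨w il, ?_⟩
    funext i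
    rw [Pi.smul_apply, smul_eq_mul, Pi.single_apply]
    by_cases hi : i = il
    · rw [if_pos hi, mul_one, hi]
    · rw [if_neg hi, mul_zero]
      apply hz
      by_contra hcon
      apply hi
      apply Fin.ext
      show i.val = n - 1
      have := i.isLt
      omega
  · intro g c hgc
    have hgc' : g.1 * (1 + U0N F n) = c • ((1 + U0N F n) * g.1) := by
      rw [← hu]
      exact hgc
    -- the eigenvector `g e_0`
    have he0 : (1 + U0N F n) *ᵥ (Pi.single i0 1 : Fin n → F) = Pi.single i0 1 := by
      rw [add_mulVec, one_mulVec]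
      have : U0N F n *ᵥ (Pi.single i0 1 : Fin n → F) = 0 := by
        funext i
        rw [U0N_mulVec, Pi.zero_apply]
        by_cases hlt : i.val + 1 < n
        · rw [U0ext_of_lt _ hlt, Pi.single_apply, if_neg]
          intro hh
          have := congrArg Fin.val hh
          simp only [hi0] at this
          omega
        · exact U0ext_of_le _ (by omega)
      rw [this, add_zero]
    have hz : g.1 *ᵥ (Pi.single i0 1 : Fin n → F) ≠ 0 := mulVec_ne_zero g (by
      intro h
      have := congrFun h i0
      simp at this)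
    have hzc : g.1 *ᵥ (Pi.single i0 1 : Fin n → F) =
        c • ((1 + U0N F n) *ᵥ (g.1 *ᵥ (Pi.single i0 1 : Fin n → F))) := by
      have : (g.1 * (1 + U0N F n)) *ᵥ (Pi.single i0 1 : Fin n → F) =
          (c • ((1 + U0N F n) * g.1)) *ᵥ (Pi.single i0 1 : Fin n → F) := by rw [hgc']
      rw [← mulVec_mulVec, he0, smul_mulVec, ← mulVec_mulVec] at this
      exact this
    have hc0 : c ≠ 0 := by
      intro hc0
      rw [hc0, zero_smul] at hzc
      exact hz hzc
    have hc1 : c = 1 := by
      have h1 : (1 + U0N F n) *ᵥ (g.1 *ᵥ (Pi.single i0 1 : Fin n → F)) =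
          c⁻¹ • (g.1 *ᵥ (Pi.single i0 1 : Fin n → F)) := by
        conv_rhs => rw [hzc]
        rw [smul_smul, inv_mul_cancel₀ hc0, one_smul]
      have := (U0_eigen _ _ hz h1).1
      exact inv_eq_one.mp this
    -- `g` commutes with `N`
    have hcomm : g.1 * U0N F n = U0N F n * g.1 := by
      rw [hc1, one_smul, mul_add, add_mul, mul_one, one_mul] at hgc'
      exact add_left_cancel hgc'
    have hT := U0_toeplitz hn g.1 hcomm
    set a := g.1 i0 i0 with ha
    have hA : ∀ i j : Fin n, j.val < i.val + 1 →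
        (g.1 - a • (1 : Matrix (Fin n) (Fin n) F)) i j = 0 := by
      intro i j hij
      rw [Matrix.sub_apply, Matrix.smul_apply, Matrix.one_apply, hT j.val i j rfl (by omega)]
      by_cases hh : i.val = j.val
      · rw [if_pos hh, if_pos (Fin.ext hh), smul_eq_mul, mul_one, sub_self]
      · rw [if_neg hh, if_neg (fun h' => hh (congrArg Fin.val h')), smul_zero, sub_zero]
    refine ⟨n, a ^ p ^ n, ?_⟩
    have := U0_pow_char (F := F) p hn a hA
    rw [add_sub_cancel] at this
    exact this

end Cfsg.Agent.Helper94.Nc
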