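import Mathlib
import Cfsg.Agent.Helper94.Nc.Defs
import Cfsg.Agent.Helper94.Nc.P_U0
import Cfsg.Agent.Helper94.Nc.P_TRANS

set_option autoImplicit false
set_option linter.unusedSectionVars false
set_option linter.unusedVariables false

/-!
# (UNIP) for every incident pair `(v, w)` a `p`-element of `G ≥ PSL_n` fixing only the point `[v]` and only the hyperplane `[w]`,
whose centralizer in `G` is a `p`-group

From the STATEMENTS `exists_regular_unipotent` ((U0): `u, v₀, w₀`) and `exists_gl_flag` ((TRANS): `g v₀ = a • v`, `w ᵥ* g = b • w₀`):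
`y := g * toGL u * g⁻¹` has determinant one (`mk_mem_slImage_of_det`), `x := ⟨QuotientGroup.mk y, hG _⟩`.
* `x ^ p ^ k = 1` from `u ^ p ^ k = 1` (`Subtype.ext`, `QuotientGroup.mk_pow`, conjugation).
* fixed points (`Projectivization.ind`, `mk_smul_mk_eq_iff` in `Defs`): `y v' = c v'` gives `u (g⁻¹ v') = c (g⁻¹ v')`, so `g⁻¹ v' = a' v₀`,
  `v' = a' a • v`; `Projectivization.mk_eq_mk_iff'`.
* fixed hyperplanes (`pgInvT_mk_smul_mk_eq_iff` in `Defs`): `w' ᵥ* y = c • w'` gives `(w' ᵥ* g) ᵥ* u = c • (w' ᵥ* g)`, so `w' ᵥ* g = a' • w₀`, and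
  `w ᵥ* g = b • w₀` gives `w' = (a' / b) • w` (multiply by `g⁻¹` on the right).
* centralizer: `Commute z x` in `↥G`, `z = mk h` (`QuotientGroup.mk_surjective`): `mk (h * y) = mk (y * h)`, so `h * y = (y * h) * s` with `s` central,
  `s = scalar c` (`Matrix.GeneralLinearGroup.mem_center_iff_val_mem_range_scalar`); conjugating by `g`: `h' := g⁻¹ h g` satisfies
  `h' u = c • (u h')`; (U0) gives `h' ^ p ^ k = a • 1`, so `h ^ p ^ k` is scalar and `z ^ p ^ k = 1`.
-/

namespace Cfsg.Agent.Helper94.Nc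

open Matrix Projectivization
open scoped LinearAlgebra.Projectivization

theorem exists_unip {F : Type*} [Field F] [Fintype F] {n : ℕ} (p : ℕ) [Fact p.Prime] [CharP F p]
    (hn : 2 ≤ n) (G : Subgroup (PG n F)) (hG : slImage n F ≤ G) (v w : Fin n → F) (hv : v ≠ 0)
    (hw : w ≠ 0) (h : w ⬝ᵥ v = 0) :
    ∃ x : ↥G, (∃ k : ℕ, x ^ p ^ k = 1) ∧
      (∀ pt : ℙ F (Fin n → F), (x : PG n F) • pt = pt → pt = Projectivization.mk F v hv) ∧
      (∀ pt : ℙ F (Fin n → F), pgInvT (x : PG n F) • pt = pt → pt = Projectivization.mk F w hw) ∧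
      (∀ y : ↥G, Commute y x → ∃ k : ℕ, y ^ p ^ k = 1) := by
  obtain ⟨u, v₀, w₀, hv₀, hw₀, h₀, ⟨k, hk⟩, hev, hlev, hcen⟩ :=
    exists_regular_unipotent (F := F) (n := n) p hn
  obtain ⟨g, a, b, ha, hb, hgv, hgw⟩ := exists_gl_flag hn v₀ w₀ v w hv₀ hw₀ h₀ hv hw h
  set U : GL (Fin n) F := Matrix.SpecialLinearGroup.toGL u with hU
  have hUval : U.1 = u.1 := rfl
  set y : GL (Fin n) F := g * U * g⁻¹ with hy
  have hg1 : (g⁻¹).1 * g.1 = 1 := by simp
  have hg2 : g.1 * (g⁻¹).1 = 1 := by simp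
  have hyval : y.1 = g.1 * u.1 * (g⁻¹).1 := by
    rw [hy]
    simp [hUval]
  have hdet : y.1.det = 1 := by
    rw [hyval, Matrix.det_mul, Matrix.det_mul, u.2, mul_one, ← Matrix.det_mul, hg2, Matrix.det_one]
  have hyg : y.1 * g.1 = g.1 * u.1 := by
    rw [hyval, Matrix.mul_assoc, hg1, Matrix.mul_one]
  have hgy : (g⁻¹).1 * y.1 = u.1 * (g⁻¹).1 := by
    rw [hyval, ← Matrix.mul_assoc, ← Matrix.mul_assoc, hg1, Matrix.one_mul]
  refine ⟨⟨QuotientGroup.mk y, hG (mk_mem_slImage_of_det y hdet)⟩, ⟨k, ?_⟩, ?_, ?_, ?_⟩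
  · apply Subtype.ext
    show (QuotientGroup.mk y : PG n F) ^ p ^ k = 1
    rw [← QuotientGroup.mk_pow, hy, conj_pow, hU, ← map_pow, hk, map_one, mul_one, mul_inv_cancel]
    rfl
  · intro pt hpt
    induction pt using Projectivization.ind with
    | h v' hv' =>
      have hpt' : (QuotientGroup.mk y : PG n F) • Projectivization.mk F v' hv' =
          Projectivization.mk F v' hv' := hpt
      rw [mk_smul_mk_eq_iff] at hpt'
      obtain ⟨c, hc⟩ := hpt'
      have hv'' : (g⁻¹).1 *ᵥ v' ≠ 0 := mulVec_ne_zero g⁻¹ hv'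
      have h1 : u.1 *ᵥ ((g⁻¹).1 *ᵥ v') = c • ((g⁻¹).1 *ᵥ v') := by
        rw [Matrix.mulVec_mulVec, ← hgy, ← Matrix.mulVec_mulVec, hc, Matrix.mulVec_smul]
      obtain ⟨a', ha'⟩ := hev _ c hv'' h1
      have h2 : v' = g.1 *ᵥ ((g⁻¹).1 *ᵥ v') := by
        rw [Matrix.mulVec_mulVec, hg2, Matrix.one_mulVec]
      rw [Projectivization.mk_eq_mk_iff']
      refine ⟨a' * a, ?_⟩
      rw [h2, ha', Matrix.mulVec_smul, hgv, smul_smul]
  · intro pt hpt
    induction pt using Projectivization.ind with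
    | h w' hw' =>
      have hpt' : pgInvT (QuotientGroup.mk y : PG n F) • Projectivization.mk F w' hw' =
          Projectivization.mk F w' hw' := hpt
      rw [pgInvT_mk_smul_mk_eq_iff] at hpt'
      obtain ⟨c, hc⟩ := hpt'
      have hw'' : w' ᵥ* g.1 ≠ 0 := by
        intro h0
        apply hw'
        have h3 : (w' ᵥ* g.1) ᵥ* (g⁻¹).1 = 0 ᵥ* (g⁻¹).1 := by rw [h0]
        rw [Matrix.vecMul_vecMul, hg2, Matrix.vecMul_one, Matrix.zero_vecMul] at h3
        exact h3
      have h1 : (w' ᵥ* g.1) ᵥ* u.1 = c • (w' ᵥ* g.1) := by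
        rw [Matrix.vecMul_vecMul, ← hyg, ← Matrix.vecMul_vecMul, hc, Matrix.smul_vecMul]
      obtain ⟨a', ha'⟩ := hlev _ c hw'' h1
      have h2 : w' = (w' ᵥ* g.1) ᵥ* (g⁻¹).1 := by
        rw [Matrix.vecMul_vecMul, hg2, Matrix.vecMul_one]
      have h3 : w = (w ᵥ* g.1) ᵥ* (g⁻¹).1 := by
        rw [Matrix.vecMul_vecMul, hg2, Matrix.vecMul_one]
      rw [Projectivization.mk_eq_mk_iff']
      refine ⟨a' * b⁻¹, ?_⟩
      rw [h2, ha']
      conv_lhs => rw [h3, hgw]
      rw [Matrix.smul_vecMul, Matrix.smul_vecMul, smul_smul, mul_assoc, inv_mul_cancel₀ hb,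
        mul_one]
  · intro z hz
    obtain ⟨h', hh'⟩ := QuotientGroup.mk_surjective (z : PG n F)
    have hcomm : (QuotientGroup.mk (h' * y) : PG n F) = QuotientGroup.mk (y * h') := by
      show (QuotientGroup.mk h' : PG n F) * QuotientGroup.mk y = QuotientGroup.mk y * QuotientGroup.mk h'
      rw [hh']
      exact congrArg (fun t : ↥G => (t : PG n F)) hz.eq
    rw [QuotientGroup.eq] at hcomm
    have hs := Subgroup.inv_mem _ hcomm
    rw [Matrix.GeneralLinearGroup.mem_center_iff_val_mem_range_scalar] at hs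
    obtain ⟨c, hc⟩ := hs
    -- `h' * y = (y * h') * s⁻¹`
    have h1 : h'.1 * y.1 = c • (y.1 * h'.1) := by
      have h2 : ((h' * y)⁻¹ * (y * h'))⁻¹ = (y * h')⁻¹ * (h' * y) := by group
      rw [h2] at hc
      have h3 : (h' * y).1 = (y * h').1 * ((y * h')⁻¹ * (h' * y)).1 := by
        rw [← Units.val_mul]
        congr 1
        group
      rw [← hc] at h3
      have h4 : (h' * y).1 = h'.1 * y.1 := rfl
      have h5 : (y * h').1 = y.1 * h'.1 := rfl
      rw [h4, h5] at h3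
      rw [h3]
      simp [Matrix.scalar_apply, Matrix.smul_eq_mul_diagonal]
    -- conjugate
    set m : GL (Fin n) F := g⁻¹ * h' * g with hm
    have hmval : m.1 = (g⁻¹).1 * h'.1 * g.1 := rfl
    have h6 : m.1 * u.1 = c • (u.1 * m.1) := by
      rw [hmval]
      calc (g⁻¹).1 * h'.1 * g.1 * u.1 = (g⁻¹).1 * (h'.1 * (g.1 * u.1)) := by
            simp only [Matrix.mul_assoc]
        _ = (g⁻¹).1 * (h'.1 * y.1 * g.1) := by rw [← hyg, Matrix.mul_assoc]
        _ = c • ((g⁻¹).1 * y.1 * h'.1 * g.1) := by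
            rw [h1]
            simp only [Matrix.smul_mul, Matrix.mul_smul, Matrix.mul_assoc]
        _ = c • (u.1 * ((g⁻¹).1 * h'.1 * g.1)) := by
            rw [hgy]
            simp only [Matrix.mul_assoc]
    obtain ⟨k', a', hk'⟩ := hcen m c h6
    refine ⟨k', ?_⟩
    apply Subtype.ext
    show (z : PG n F) ^ p ^ k' = 1
    rw [← hh', ← QuotientGroup.mk_pow, QuotientGroup.eq_one_iff,
      Matrix.GeneralLinearGroup.mem_center_iff_val_mem_range_scalar]
    refine ⟨a', ?_⟩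
    have h7 : h' = g * m * g⁻¹ := by
      rw [hm]
      group
    have h8 : (h' ^ p ^ k').1 = g.1 * (m.1 ^ p ^ k') * (g⁻¹).1 := by
      rw [h7, conj_pow]
      rfl
    rw [h8, hk']
    rw [Matrix.mul_smul, Matrix.mul_one, Matrix.smul_mul, hg2]
    simp [Matrix.scalar_apply, Matrix.smul_one_eq_diagonal]

end Cfsg.Agent.Helper94.Nc
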