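import Mathlib
import Cfsg.Agent.Helper94.Nc.Defs
import Cfsg.Agent.Helper94.Nc.P_REPL
import Cfsg.Agent.Helper94.Nc.P_COUNT
import Cfsg.Agent.Helper94.Nc.P_NILP
import Cfsg.Agent.Helper94.Nc.P_STAB
import Cfsg.Agent.Helper94.Nc.P_FIX
import Cfsg.Agent.Helper94.Nc.P_HYP
import Cfsg.Agent.Helper94.Nc.P_UNIP

set_option autoImplicit false
set_option linter.unusedSectionVars false
set_option linter.unusedVariables false

/-!
# S3894: the common part (members containing a regular unipotent element)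
-/

namespace Cfsg.Agent.Helper94.Nc

open Matrix Projectivization
open scoped LinearAlgebra.Projectivization

variable {F : Type*} [Field F] [Fintype F] {n : ℕ}

/-- incident pairs -/
def Inc (n : ℕ) (F : Type*) [Field F] : Type _ :=
  {vw : (Fin n → F) × (Fin n → F) // vw.1 ≠ 0 ∧ vw.2 ≠ 0 ∧ vw.2 ⬝ᵥ vw.1 = 0}

/-- the point of an incident pair -/
def Inc.pt (i : Inc n F) : ℙ F (Fin n → F) := Projectivization.mk F i.1.1 i.2.1

/-- the hyperplane of an incident pair -/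
def Inc.hyp (i : Inc n F) : ℙ F (Fin n → F) := Projectivization.mk F i.1.2 i.2.2.1

/-- a nilpotent subgroup of `G` containing the unipotent element attached to an incident pair -/
theorem core (p : ℕ) [Fact p.Prime] [CharP F p] (hn : 2 ≤ n) (G : Subgroup (PG n F))
    (i : Inc n F) (x : ↥G) (hxp : ∃ k : ℕ, x ^ p ^ k = 1)
    (hxpt : ∀ pt : ℙ F (Fin n → F), (x : PG n F) • pt = pt → pt = i.pt)
    (hxhyp : ∀ pt : ℙ F (Fin n → F), pgInvT (x : PG n F) • pt = pt → pt = i.hyp)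
    (hxC : ∀ y : ↥G, Commute y x → ∃ k : ℕ, y ^ p ^ k = 1)
    (A : Subgroup ↥G) (hA : Group.IsNilpotent ↥A) (hxA : x ∈ A) :
    IsPGroup p A ∧ (∀ a ∈ A, (a : PG n F) • i.pt = i.pt) ∧
      (∀ a ∈ A, pgInvT (a : PG n F) • i.hyp = i.hyp) ∧
      (∀ pt : ℙ F (Fin n → F), (∀ a ∈ A, (a : PG n F) • pt = pt) → pt = i.pt) ∧
      (∀ pt : ℙ F (Fin n → F), (∀ a ∈ A, pgInvT (a : PG n F) • pt = pt) → pt = i.hyp) := by
  have hfin : Finite (PG n F) := inferInstance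
  have hP : IsPGroup p A := by
    obtain ⟨k, hk⟩ := hxp
    refine isPGroup_of_centralizer hA p ⟨x, hxA⟩ ⟨k, Subtype.ext (by simpa using hk)⟩ ?_
    intro y hy
    have hy' : Commute (y : ↥G) x := by
      have := congrArg (fun z : ↥A => (z : ↥G)) hy.eq
      exact this
    obtain ⟨k', hk'⟩ := hxC y hy'
    exact ⟨k', Subtype.ext (by simpa using hk')⟩
  have hP' : IsPGroup p ((A.map G.subtype : Subgroup (PG n F))) := hP.map _
  have hmem : ∀ a ∈ A, (a : PG n F) ∈ (A.map G.subtype : Subgroup (PG n F)) :=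
    fun a ha => ⟨a, ha, rfl⟩
  obtain ⟨pt1, hpt1⟩ := exists_fixed_point p (by omega) _ hP'
  obtain ⟨pt2, hpt2⟩ := exists_fixed_hyperplane p (by omega) _ hP'
  have h1 : pt1 = i.pt := hxpt pt1 (hpt1 _ (hmem x hxA))
  have h2 : pt2 = i.hyp := hxhyp pt2 (hpt2 _ (hmem x hxA))
  subst h1 h2
  refine ⟨hP, fun a ha => hpt1 _ (hmem a ha), fun a ha => hpt2 _ (hmem a ha), ?_, ?_⟩
  · intro pt hpt
    exact hxpt pt (hpt x hxA)
  · intro pt hpt
    exact hxhyp pt (hpt x hxA)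

/-- the members of a nilpotent cover attached to the incident pairs -/
theorem exists_members (p : ℕ) [Fact p.Prime] [CharP F p] (hn : 2 ≤ n) (G : Subgroup (PG n F))
    (hG : slImage n F ≤ G) (𝓐 : Finset (Subgroup ↥G)) (hcov : ∀ g : ↥G, ∃ A ∈ 𝓐, g ∈ A)
    (hnil : ∀ A ∈ 𝓐, Group.IsNilpotent ↥A) :
    ∃ Φ : Inc n F → Subgroup ↥G, (∀ i, Φ i ∈ 𝓐) ∧ (∀ i, IsPGroup p (Φ i)) ∧
      (∀ i, ∀ a ∈ Φ i, (a : PG n F) • i.pt = i.pt) ∧
      (∀ i, ∀ a ∈ Φ i, pgInvT (a : PG n F) • i.hyp = i.hyp) ∧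
      (∀ i, ∀ pt : ℙ F (Fin n → F), (∀ a ∈ Φ i, (a : PG n F) • pt = pt) → pt = i.pt) ∧
      (∀ i, ∀ pt : ℙ F (Fin n → F), (∀ a ∈ Φ i, pgInvT (a : PG n F) • pt = pt) → pt = i.hyp) := by
  have key : ∀ i : Inc n F, ∃ A : Subgroup ↥G, A ∈ 𝓐 ∧ IsPGroup p A ∧
      (∀ a ∈ A, (a : PG n F) • i.pt = i.pt) ∧
      (∀ a ∈ A, pgInvT (a : PG n F) • i.hyp = i.hyp) ∧
      (∀ pt : ℙ F (Fin n → F), (∀ a ∈ A, (a : PG n F) • pt = pt) → pt = i.pt) ∧
      (∀ pt : ℙ F (Fin n → F), (∀ a ∈ A, pgInvT (a : PG n F) • pt = pt) → pt = i.hyp) := by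
    intro i
    obtain ⟨x, hxp, hxpt, hxhyp, hxC⟩ := exists_unip p hn G hG i.1.1 i.1.2 i.2.1 i.2.2.1 i.2.2.2
    obtain ⟨A, hA𝓐, hxA⟩ := hcov x
    obtain ⟨h1, h2, h3, h4, h5⟩ := core p hn G i x hxp hxpt hxhyp hxC A (hnil A hA𝓐) hxA
    exact ⟨A, hA𝓐, h1, h2, h3, h4, h5⟩
  choose Φ hΦ using key
  exact ⟨Φ, fun i => (hΦ i).1, fun i => (hΦ i).2.1, fun i => (hΦ i).2.2.1,
    fun i => (hΦ i).2.2.2.1, fun i => (hΦ i).2.2.2.2.1, fun i => (hΦ i).2.2.2.2.2⟩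

/-- the point stabilizers, as a finset -/
noncomputable def stabs (G : Subgroup (PG n F)) : Finset (Subgroup ↥G) := by
  classical
  haveI : Fintype (ℙ F (Fin n → F)) := Fintype.ofFinite _
  exact Finset.univ.image (fun pt : ℙ F (Fin n → F) => MulAction.stabilizer ↥G pt)

theorem mem_stabs (G : Subgroup (PG n F)) (B : Subgroup ↥G) :
    B ∈ stabs G ↔ ∃ pt : ℙ F (Fin n → F), MulAction.stabilizer ↥G pt = B := by
  classical
  unfold stabs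
  simp

/-- the members fixing a point -/
noncomputable def fixing (G : Subgroup (PG n F)) (𝓐 : Finset (Subgroup ↥G)) : Finset (Subgroup ↥G) := by
  classical
  exact 𝓐.filter (fun A => ∃ pt : ℙ F (Fin n → F), A ≤ MulAction.stabilizer ↥G pt)

theorem mem_fixing (G : Subgroup (PG n F)) (𝓐 : Finset (Subgroup ↥G)) (A : Subgroup ↥G) :
    A ∈ fixing G 𝓐 ↔ A ∈ 𝓐 ∧ ∃ pt : ℙ F (Fin n → F), A ≤ MulAction.stabilizer ↥G pt := by
  classical
  unfold fixing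
  simp

/-- at most `#points` members fix a point -/
theorem card_fixing_le (hn : 2 ≤ n) (G : Subgroup (PG n F)) (hG : slImage n F ≤ G)
    (𝓐 : Finset (Subgroup ↥G)) (hprop : ∀ A ∈ 𝓐, A ≠ ⊤) (hcov : ∀ g : ↥G, ∃ A ∈ 𝓐, g ∈ A)
    (hmin : ∀ 𝓑 : Finset (Subgroup ↥G), (∀ B ∈ 𝓑, B ≠ ⊤) ∧ (∀ g : ↥G, ∃ B ∈ 𝓑, g ∈ B) →
      𝓐.card ≤ 𝓑.card) :
    (fixing G 𝓐).card ≤ (stabs G).card := by
  refine card_le_of_replace 𝓐 hcov hmin hprop (stabs G) (fixing G 𝓐) ?_ ?_ ?_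
  · intro B hB
    obtain ⟨pt, rfl⟩ := (mem_stabs G B).1 hB
    exact stabilizer_ne_top hn G hG pt
  · intro A hA
    exact ((mem_fixing G 𝓐 A).1 hA).1
  · intro A hA
    obtain ⟨pt, hpt⟩ := ((mem_fixing G 𝓐 A).1 hA).2
    exact ⟨_, (mem_stabs G _).2 ⟨pt, rfl⟩, hpt⟩

theorem smul_coe (G : Subgroup (PG n F)) (a : ↥G) (pt : ℙ F (Fin n → F)) :
    a • pt = (a : PG n F) • pt := rfl

/-- `Φ i` fixes a point -/
theorem phi_mem_fixing (G : Subgroup (PG n F)) (𝓐 : Finset (Subgroup ↥G)) (i : Inc n F)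
    (A : Subgroup ↥G) (hA : A ∈ 𝓐) (h : ∀ a ∈ A, (a : PG n F) • i.pt = i.pt) : A ∈ fixing G 𝓐 := by
  refine (mem_fixing G 𝓐 A).2 ⟨hA, i.pt, ?_⟩
  intro a ha
  rw [MulAction.mem_stabilizer_iff, smul_coe]
  exact h a ha

/-- every point is the point of an incident pair -/
theorem exists_inc_pt (hn : 2 ≤ n) (pt : ℙ F (Fin n → F)) : ∃ i : Inc n F, i.pt = pt := by
  induction pt using Projectivization.ind with
  | h v hv =>
    obtain ⟨w, hw, hwv⟩ := exists_hyperplane hn v hv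
    exact ⟨⟨(v, w), hv, hw, hwv⟩, rfl⟩

/-- `n ≥ 3`: contradiction -/
theorem main_three (p : ℕ) [Fact p.Prime] [CharP F p] (hn : 3 ≤ n) (G : Subgroup (PG n F))
    (hG : slImage n F ≤ G) (𝓐 : Finset (Subgroup ↥G)) (hprop : ∀ A ∈ 𝓐, A ≠ ⊤)
    (hcov : ∀ g : ↥G, ∃ A ∈ 𝓐, g ∈ A)
    (hmin : ∀ 𝓑 : Finset (Subgroup ↥G), (∀ B ∈ 𝓑, B ≠ ⊤) ∧ (∀ g : ↥G, ∃ B ∈ 𝓑, g ∈ B) →
      𝓐.card ≤ 𝓑.card)
    (hnil : ∀ A ∈ 𝓐, Group.IsNilpotent ↥A) : False := by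
  have hn2 : 2 ≤ n := by omega
  obtain ⟨Φ, hΦ𝓐, hΦp, hΦpt, hΦhyp, hΦupt, hΦuhyp⟩ := exists_members p hn2 G hG 𝓐 hcov hnil
  have hle := card_fixing_le hn2 G hG 𝓐 hprop hcov hmin
  have hlt : (stabs G).card < (fixing G 𝓐).card := by
    refine card_lt_of_map Φ (fun i => MulAction.stabilizer ↥G i.pt) (fixing G 𝓐) (stabs G) ?_ ?_ ?_ ?_
    · intro i
      exact phi_mem_fixing G 𝓐 i _ (hΦ𝓐 i) (hΦpt i)
    · intro i j hij
      have : i.pt = j.pt := by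
        apply hΦupt j
        intro a ha
        rw [← hij] at ha
        exact hΦpt i a ha
      show MulAction.stabilizer ↥G i.pt = MulAction.stabilizer ↥G j.pt
      rw [this]
    · intro B hB
      obtain ⟨pt, rfl⟩ := (mem_stabs G B).1 hB
      obtain ⟨i, rfl⟩ := exists_inc_pt hn2 pt
      exact ⟨i, rfl⟩
    · obtain ⟨v, hv⟩ : ∃ v : Fin n → F, v ≠ 0 := by
        refine ⟨fun _ => 1, ?_⟩
        intro h
        have := congrFun h ⟨0, by omega⟩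
        simp at this
      obtain ⟨w, w', hw, hw', hwv, hw'v, hne⟩ := exists_two_hyperplanes hn v hv
      refine ⟨⟨(v, w), hv, hw, hwv⟩, ⟨(v, w'), hv, hw', hw'v⟩, rfl, ?_⟩
      intro hij
      apply hne
      have : Inc.hyp (⟨(v, w), hv, hw, hwv⟩ : Inc n F) = Inc.hyp (⟨(v, w'), hv, hw', hw'v⟩ : Inc n F) := by
        apply hΦuhyp ⟨(v, w'), hv, hw', hw'v⟩
        intro a ha
        rw [← hij] at ha
        exact hΦhyp ⟨(v, w), hv, hw, hwv⟩ a ha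
      exact this
  omega

end Cfsg.Agent.Helper94.Nc
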