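import Mathlib
import Cfsg.Agent.Helper94.Nc.Defs

set_option autoImplicit false
set_option linter.unusedSectionVars false
set_option linter.unusedVariables false

/-!
# (ARITH) small arithmetic for the case `n = 2`

* `exists_odd_prime`: if `q - 1` is not a power of `2` it has an odd prime factor (`Nat.exists_prime_and_dvd` on the odd part, or
  `Nat.eq_two_pow_or_exists_odd_prime_and_dvd`); otherwise `q - 1 = 2 ^ k` with `k ≥ 2` (`q = 4` gives `3`), `q + 1 = 2 (2 ^ (k - 1) + 1)` and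
  `2 ^ (k - 1) + 1 ≥ 3` is odd.
* `exists_unit_orderOf`: `Fintype.card Fˣ = Fintype.card F - 1` (`Fintype.card_units`), Cauchy (`exists_prime_orderOf_dvd_card`).
* `exists_unit_sq_ne_one`: `X ^ 2 - 1` has at most two roots and `#Fˣ ≥ 3` (or: `Fˣ` is cyclic of order `q - 1 ≥ 3`, a generator works).
-/

namespace Cfsg.Agent.Helper94.Nc

theorem exists_odd_prime (q : ℕ) (hq : 4 ≤ q) :
    (∃ l : ℕ, l.Prime ∧ l ≠ 2 ∧ l ∣ q - 1) ∨ (∃ l : ℕ, l.Prime ∧ l ≠ 2 ∧ l ∣ q + 1) := by
  have hodd : ∀ l : ℕ, Odd l → l ≠ 2 := by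
    rintro l ho rfl
    exact absurd ho (by decide)
  rcases Nat.eq_two_pow_or_exists_odd_prime_and_dvd (q - 1) with ⟨k, hk⟩ | ⟨l, hl, hd, ho⟩
  · rcases Nat.eq_two_pow_or_exists_odd_prime_and_dvd (q + 1) with ⟨m, hm⟩ | ⟨l, hl, hd, ho⟩
    · exfalso
      have hk2 : 2 ≤ k := by
        by_contra hlt
        have h01 : k = 0 ∨ k = 1 := by omega
        rcases h01 with rfl | rfl
        · rw [pow_zero] at hk; omega
        · rw [pow_one] at hk; omega
      have hm2 : 2 ≤ m := by
        by_contra hlt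
        have h01 : m = 0 ∨ m = 1 := by omega
        rcases h01 with rfl | rfl
        · rw [pow_zero] at hm; omega
        · rw [pow_one] at hm; omega
      obtain ⟨k', rfl⟩ := Nat.exists_eq_add_of_le hk2
      obtain ⟨m', rfl⟩ := Nat.exists_eq_add_of_le hm2
      rw [pow_add] at hk hm
      norm_num at hk hm
      omega
    · right
      exact ⟨l, hl, hodd l ho, hd⟩
  · left
    exact ⟨l, hl, hodd l ho, hd⟩

theorem exists_unit_orderOf {F : Type*} [Field F] [Fintype F] (l : ℕ) (hl : l.Prime)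
    (h : l ∣ Fintype.card F - 1) : ∃ a : Fˣ, orderOf a = l := by
  classical
  haveI : Fact l.Prime := ⟨hl⟩
  have hcard : Fintype.card Fˣ = Fintype.card F - 1 := Fintype.card_units F
  exact exists_prime_orderOf_dvd_card l (by rw [hcard]; exact h)

theorem exists_unit_sq_ne_one {F : Type*} [Field F] [Fintype F] (hq : 4 ≤ Fintype.card F) :
    ∃ a : Fˣ, a ^ 2 ≠ 1 := by
  classical
  obtain ⟨g, hg⟩ := IsCyclic.exists_generator (α := Fˣ)
  refine ⟨g, fun h2 => ?_⟩
  have hord : orderOf g = Fintype.card Fˣ := orderOf_eq_card_of_forall_mem_zpowers hg |>.trans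
    Nat.card_eq_fintype_card
  have hcard : Fintype.card Fˣ = Fintype.card F - 1 := Fintype.card_units F
  have hdvd : orderOf g ∣ 2 := orderOf_dvd_of_pow_eq_one h2
  have hle := Nat.le_of_dvd (by norm_num) hdvd
  omega

end Cfsg.Agent.Helper94.Nc
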