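import Mathlib
import Cfsg.Agent.Helper94.Nc.Defs
import Cfsg.Agent.Helper5.Card

set_option autoImplicit false
set_option linter.unusedSectionVars false
set_option linter.unusedVariables false

/-!
# (NSA) elements of odd prime order `l ∣ q + 1` of `SL_2(q)`

* `exists_sl2_orderOf`: `#SL_2(F) = q (q² - 1)` (Mathlib `Matrix.card_GL_field` for `GL` and `det` surjective, or any version on main:
  grep `card_SL`/`card_specialLinearGroup` under `Cfsg/Agent`), `l ∣ q + 1 ∣ q (q² - 1)`, Cauchy (`exists_prime_orderOf_dvd_card`).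
* `no_eigenvector`: `c v = a v`, `v ≠ 0`: `a ^ l = 1` (`c ^ l = 1`) and `a ^ (q - 1) = 1` (`a ≠ 0`), `gcd(l, q - 1) = 1` (`l` odd, `l ∣ q + 1`,
  `gcd(q + 1, q - 1) ∣ 2`), so `a = 1`; `det c = 1` so the characteristic polynomial is `(X - 1)²`, `(c - 1)² = 0` (Cayley–Hamilton, `Matrix.aeval_self_charpoly`,
  or 2×2 by hand: `c² - (tr c) c + 1 = 0` with `tr c = 2`), so `c ^ p = 1` (`p` the characteristic: `(1 + N) ^ p = 1 + N ^ p`), and `l ∣ p` gives `l = p`,
  contradicting `l ∣ q + 1` (`p ∣ q`).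
* `orderOf_mk_sl2`: `(mk (toGL c)) ^ j = 1` iff `c ^ j` scalar `t`, `t² = det = 1`, `t = ±1`; `c ^ j = -1` gives `c ^ (2 j) = 1`, `l ∣ 2 j`, `l ∣ j`, `c ^ j = 1`.
  So `(mk (toGL c)) ^ j = 1 ↔ l ∣ j`.
-/

namespace Cfsg.Agent.Helper94.Nc

open Matrix

/-- `#SL_2(F) * (q - 1) = (q² - 1) (q² - q)` -/
theorem card_sl2_mul_h75 {F : Type*} [Field F] [Fintype F] :
    Nat.card (Matrix.SpecialLinearGroup (Fin 2) F) * (Fintype.card F - 1) =
      (Fintype.card F ^ 2 - 1) * (Fintype.card F ^ 2 - Fintype.card F) := by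
  rw [← Cfsg.Agent.Helper5.card_GL_eq_card_SL_mul, Matrix.card_GL_field, Fin.prod_univ_two]
  simp

/-- `(q² - 1)(q² - q) = (q (q + 1) (q - 1)) (q - 1)` in `ℕ` -/
theorem card_arith_h75 (q : ℕ) (hq : 1 ≤ q) :
    (q ^ 2 - 1) * (q ^ 2 - q) = (q * (q + 1) * (q - 1)) * (q - 1) := by
  obtain ⟨r, rfl⟩ : ∃ r, q = r + 1 := ⟨q - 1, by omega⟩
  have e1 : (r + 1) ^ 2 - 1 = (r + 2) * r := by
    have : (r + 1) ^ 2 = (r + 2) * r + 1 := by ring
    omega
  have e2 : (r + 1) ^ 2 - (r + 1) = (r + 1) * r := by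
    have : (r + 1) ^ 2 = (r + 1) * r + (r + 1) := by ring
    omega
  rw [e1, e2]
  simp only [Nat.add_sub_cancel]
  ring

theorem exists_sl2_orderOf {F : Type*} [Field F] [Fintype F] (l : ℕ) (hl : l.Prime)
    (hdvd : l ∣ Fintype.card F + 1) :
    ∃ c : Matrix.SpecialLinearGroup (Fin 2) F, orderOf c = l := by
  classical
  have : Fact l.Prime := ⟨hl⟩
  have hq : 2 ≤ Fintype.card F := Fintype.one_lt_card
  set q := Fintype.card F with hqdef
  have h1 := card_sl2_mul_h75 (F := F)
  rw [← hqdef] at h1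
  -- `(q² - 1)(q² - q) = (q (q + 1) (q - 1)) (q - 1)`
  have h2 : (q ^ 2 - 1) * (q ^ 2 - q) = (q * (q + 1) * (q - 1)) * (q - 1) :=
    card_arith_h75 q (by omega)
  rw [h2] at h1
  have hq1 : 0 < q - 1 := by omega
  have h3 : Nat.card (Matrix.SpecialLinearGroup (Fin 2) F) = q * (q + 1) * (q - 1) :=
    Nat.eq_of_mul_eq_mul_right hq1 h1
  have h4 : l ∣ Nat.card (Matrix.SpecialLinearGroup (Fin 2) F) := by
    rw [h3]
    exact Dvd.dvd.mul_right (Dvd.dvd.mul_left hdvd q) (q - 1)
  exact exists_prime_orderOf_dvd_card' l h4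

/-- powers of `1 + N` with `N² = 0` -/
theorem one_add_pow_h75 {R : Type*} [Ring R] (N : R) (hN : N * N = 0) (n : ℕ) :
    (1 + N) ^ n = 1 + (n : R) * N := by
  induction n with
  | zero => simp
  | succ n ih =>
    rw [pow_succ, ih]
    have : (1 + (n : R) * N) * (1 + N) = 1 + (n : R) * N + N + (n : R) * (N * N) := by
      noncomm_ring
    rw [this, hN]
    push_cast
    noncomm_ring

theorem no_eigenvector {F : Type*} [Field F] [Fintype F] (l : ℕ) (hl : l.Prime) (hl2 : l ≠ 2)
    (hdvd : l ∣ Fintype.card F + 1) (c : Matrix.SpecialLinearGroup (Fin 2) F) (hc : orderOf c = l)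
    (v : Fin 2 → F) (hv : v ≠ 0) (a : F) : c.1 *ᵥ v ≠ a • v := by
  classical
  intro hcv
  have hq : 2 ≤ Fintype.card F := Fintype.one_lt_card
  -- `c ^ n v = a ^ n v`
  have hpow : ∀ n : ℕ, (c.1 ^ n) *ᵥ v = a ^ n • v := by
    intro n
    induction n with
    | zero => simp
    | succ n ih =>
      rw [pow_succ, ← Matrix.mulVec_mulVec, hcv, Matrix.mulVec_smul, ih, smul_smul, pow_succ,
        mul_comm]
  have hcl : c.1 ^ l = 1 := by
    have h1 : c ^ l = 1 := by rw [← hc]; exact pow_orderOf_eq_one c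
    have h2 := congrArg (fun x : Matrix.SpecialLinearGroup (Fin 2) F => x.1) h1
    simpa using h2
  have hal : a ^ l = 1 := by
    have h1 := hpow l
    rw [hcl, Matrix.one_mulVec] at h1
    by_contra hne
    apply hv
    have h2 : (a ^ l - 1) • v = 0 := by
      rw [sub_smul, one_smul, ← h1, sub_self]
    rcases smul_eq_zero.mp h2 with h3 | h3
    · exact absurd (sub_eq_zero.mp h3) hne
    · exact h3
  have ha0 : a ≠ 0 := by
    rintro rfl
    rw [zero_pow hl.ne_zero] at hal
    exact zero_ne_one hal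
  have haq : a ^ (Fintype.card F - 1) = 1 := FiniteField.pow_card_sub_one_eq_one a ha0
  -- `gcd (l, q - 1) = 1`
  have hcop : Nat.Coprime l (Fintype.card F - 1) := by
    rw [Nat.Prime.coprime_iff_not_dvd hl]
    intro h1
    have h2 : l ∣ (Fintype.card F + 1) - (Fintype.card F - 1) := Nat.dvd_sub hdvd h1
    have h3 : (Fintype.card F + 1) - (Fintype.card F - 1) = 2 := by omega
    rw [h3] at h2
    exact hl2 ((Nat.prime_dvd_prime_iff_eq hl Nat.prime_two).mp h2)
  have ha1 : a = 1 := by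
    have h1 : orderOf a ∣ l := orderOf_dvd_of_pow_eq_one hal
    have h2 : orderOf a ∣ Fintype.card F - 1 := orderOf_dvd_of_pow_eq_one haq
    have h3 : orderOf a ∣ 1 := by
      have := Nat.dvd_gcd h1 h2
      rwa [hcop] at this
    exact orderOf_eq_one_iff.mp (Nat.dvd_one.mp h3)
  rw [ha1, one_smul] at hcv
  -- the trace is two
  have hdet0 : (c.1 - 1).det = 0 := by
    rw [← Matrix.exists_mulVec_eq_zero_iff]
    refine ⟨v, hv, ?_⟩
    rw [Matrix.sub_mulVec, hcv, Matrix.one_mulVec, sub_self]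
  have hdet1 : c.1.det = 1 := c.2
  have htr : c.1 0 0 + c.1 1 1 = 2 := by
    rw [Matrix.det_fin_two] at hdet0 hdet1
    simp only [Matrix.sub_apply, Matrix.one_apply_eq, Matrix.one_apply_ne, ne_eq,
      Fin.isValue, zero_ne_one, one_ne_zero, not_false_eq_true, sub_zero] at hdet0
    linear_combination hdet1 - hdet0
  -- `N = c - 1` squares to zero
  have hNN : (c.1 - 1) * (c.1 - 1) = 0 := by
    rw [Matrix.det_fin_two] at hdet1
    ext i j
    fin_cases i <;> fin_cases j <;>
      simp [Matrix.mul_apply, Fin.sum_univ_two]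
    · linear_combination (c.1 0 0) * htr - hdet1
    · linear_combination (c.1 0 1) * htr
    · linear_combination (c.1 1 0) * htr
    · linear_combination (c.1 1 1) * htr - hdet1
  have hcN : c.1 = 1 + (c.1 - 1) := by abel
  have h5 : c.1 ^ l = 1 + (l : Matrix (Fin 2) (Fin 2) F) * (c.1 - 1) := by
    conv_lhs => rw [hcN]
    exact one_add_pow_h75 _ hNN l
  rw [hcl] at h5
  have h6 : (l : Matrix (Fin 2) (Fin 2) F) * (c.1 - 1) = 0 := by
    have := h5
    exact (add_eq_left.mp this.symm)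
  -- either `(l : F) = 0` or `c = 1`
  have hc1 : c.1 ≠ 1 := by
    intro h
    have : c = 1 := Subtype.ext h
    rw [this, orderOf_one] at hc
    exact hl.one_lt.ne hc
  have hlF : (l : F) = 0 := by
    by_contra hne
    apply hc1
    have h7 : ∀ i j, (l : F) * (c.1 - 1) i j = 0 := by
      intro i j
      have h6' : l • (c.1 - 1) = 0 := by rw [nsmul_eq_mul]; exact h6
      have := congrFun (congrFun h6' i) j
      rw [Matrix.smul_apply, nsmul_eq_mul] at this
      exact this
    ext i j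
    have h8 := h7 i j
    rcases mul_eq_zero.mp h8 with h9 | h9
    · exact absurd h9 hne
    · have : c.1 i j - (1 : Matrix (Fin 2) (Fin 2) F) i j = 0 := by simpa using h9
      exact sub_eq_zero.mp this
  -- so `l` is the characteristic and divides `q`
  have hchar : ringChar F ∣ l := (ringChar.spec F l).mp hlF
  have hcharp : (ringChar F).Prime := CharP.char_is_prime F (ringChar F)
  have hleq : ringChar F = l := (Nat.prime_dvd_prime_iff_eq hcharp hl).mp hchar
  have hlq : l ∣ Fintype.card F := by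
    rw [← hleq]
    exact (ringChar.spec F _).mp (Nat.cast_card_eq_zero F)
  have : l ∣ 1 := (Nat.dvd_add_right hlq).mp hdvd
  exact hl.one_lt.ne' (Nat.dvd_one.mp this)

theorem orderOf_mk_sl2 {F : Type*} [Field F] (l : ℕ) (hl : l.Prime) (hl2 : l ≠ 2)
    (c : Matrix.SpecialLinearGroup (Fin 2) F) (hc : orderOf c = l) :
    orderOf (QuotientGroup.mk (Matrix.SpecialLinearGroup.toGL c) : PG 2 F) = l := by
  classical
  have : Fact l.Prime := ⟨hl⟩
  have hcl : c ^ l = 1 := by rw [← hc]; exact pow_orderOf_eq_one c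
  apply orderOf_eq_prime
  · rw [← QuotientGroup.mk_pow, ← map_pow, hcl, map_one]
    rfl
  · intro h1
    rw [QuotientGroup.eq_one_iff,
      Matrix.GeneralLinearGroup.mem_center_iff_val_mem_range_scalar] at h1
    obtain ⟨t, ht⟩ := h1
    have hval : (Matrix.SpecialLinearGroup.toGL c).1 = c.1 := rfl
    rw [hval] at ht
    -- `c = t • 1`, `t² = 1`
    have hdet : t ^ 2 = 1 := by
      have h2 : c.1.det = 1 := c.2
      rw [← ht, Matrix.scalar_apply, Matrix.det_diagonal, Fin.prod_univ_two] at h2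
      rw [pow_two]
      exact h2
    have hc2 : c ^ 2 = 1 := by
      apply Subtype.ext
      show (c ^ 2).1 = 1
      rw [Matrix.SpecialLinearGroup.coe_pow, ← ht, Matrix.scalar_apply, pow_two,
        Matrix.diagonal_mul_diagonal, ← Matrix.diagonal_one]
      congr 1
      funext i
      rw [← pow_two]
      exact hdet
    have h3 : orderOf c ∣ 2 := orderOf_dvd_of_pow_eq_one hc2
    rw [hc] at h3
    exact hl2 ((Nat.prime_dvd_prime_iff_eq hl Nat.prime_two).mp h3)

end Cfsg.Agent.Helper94.Nc
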