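import Mathlib
import Cfsg.Agent.Helper94.Nc.Defs

set_option autoImplicit false
set_option linter.unusedSectionVars false
set_option linter.unusedVariables false

/-!
# (NSB) commutants in `GL_2`

* `commutant_two`: `g` not scalar: some `v` with `v, g v` linearly independent (else every vector is an eigenvector and `g` is scalar; concretely
  test `e0, e1, e0 + e1`), so `v` is a cyclic vector; `h v = α v + β g v`; `h` and `α + β g` commute with `g` and agree on `v`, hence on `g v`, hence
  everywhere.  (Or entrywise with `Matrix.ext`/`fin_cases` on the 2×2 entries, case split on `g 0 1 ≠ 0`, `g 1 0 ≠ 0`, `g 0 0 ≠ g 1 1`.)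
* `lift_commute`: `mk (h g) = mk (g h)` gives `h g = t • (g h)` (center = scalars, `Matrix.GeneralLinearGroup.mem_center_iff_val_mem_range_scalar`,
  `QuotientGroup.eq`); `det`: `t² = 1`; if `t = -1 ≠ 1` then `tr g = tr (h g h⁻¹) = - tr g`, so `tr g = 0` (char ≠ 2 here since `-1 ≠ 1`) and Cayley–Hamilton gives
  `g² = -(det g) • 1`, scalar, so `(mk g) ^ 2 = 1`: excluded.  So `t = 1`.
-/

namespace Cfsg.Agent.Helper94.Nc

open Matrix

/-- entrywise form of `h * g = g * h` for 2×2 matrices -/
theorem comm_entries_h75 {F : Type*} [Field F] (g h : Matrix (Fin 2) (Fin 2) F)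
    (hc : h * g = g * h) :
    h 0 1 * g 1 0 = g 0 1 * h 1 0 ∧
    g 0 1 * (h 0 0 - h 1 1) = h 0 1 * (g 0 0 - g 1 1) ∧
    g 1 0 * (h 0 0 - h 1 1) = h 1 0 * (g 0 0 - g 1 1) := by
  have h00 := congrFun (congrFun hc 0) 0
  have h01 := congrFun (congrFun hc 0) 1
  have h10 := congrFun (congrFun hc 1) 0
  simp only [Matrix.mul_apply, Fin.sum_univ_two] at h00 h01 h10
  refine ⟨?_, ?_, ?_⟩
  · linear_combination h00
  · linear_combination h01
  · linear_combination -h10

theorem commutant_two {F : Type*} [Field F] (g h : Matrix (Fin 2) (Fin 2) F)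
    (hg : ∀ a : F, g ≠ a • (1 : Matrix (Fin 2) (Fin 2) F)) (hc : h * g = g * h) :
    ∃ α β : F, h = α • (1 : Matrix (Fin 2) (Fin 2) F) + β • g := by
  obtain ⟨e1, e2, e3⟩ := comm_entries_h75 g h hc
  by_cases hb : g 0 1 = 0
  · by_cases hcc : g 1 0 = 0
    · by_cases had : g 0 0 = g 1 1
      · exfalso
        apply hg (g 0 0)
        ext i j
        fin_cases i <;> fin_cases j <;> simp [hb, hcc, had]
      · have hne : g 0 0 - g 1 1 ≠ 0 := sub_ne_zero.mpr had
        have hy : h 0 1 = 0 := by
          rw [hb, zero_mul] at e2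
          rcases mul_eq_zero.mp e2.symm with h1 | h1
          · exact h1
          · exact absurd h1 hne
        have hz : h 1 0 = 0 := by
          rw [hcc, zero_mul] at e3
          rcases mul_eq_zero.mp e3.symm with h1 | h1
          · exact h1
          · exact absurd h1 hne
        refine ⟨h 0 0 - (h 0 0 - h 1 1) / (g 0 0 - g 1 1) * g 0 0,
          (h 0 0 - h 1 1) / (g 0 0 - g 1 1), ?_⟩
        ext i j
        fin_cases i <;> fin_cases j
        · simp
        · simp [hb, hy]
        · simp [hcc, hz]
        · simp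
          field_simp
          ring
    · refine ⟨h 0 0 - h 1 0 / g 1 0 * g 0 0, h 1 0 / g 1 0, ?_⟩
      have hy : h 0 1 = 0 := by
        rw [hb, zero_mul] at e1
        rcases mul_eq_zero.mp e1 with h1 | h1
        · exact h1
        · exact absurd h1 hcc
      ext i j
      fin_cases i <;> fin_cases j
      · simp
      · simp [hb, hy]
      · simp
        field_simp
      · simp
        field_simp
        linear_combination -e3
  · refine ⟨h 0 0 - h 0 1 / g 0 1 * g 0 0, h 0 1 / g 0 1, ?_⟩
    ext i j
    fin_cases i <;> fin_cases j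
    · simp
    · simp
      field_simp
    · simp
      field_simp
      linear_combination -e1
    · simp
      field_simp
      linear_combination -e2

/-- Cayley–Hamilton for 2×2 matrices -/
theorem sq_eq_two_h75 {F : Type*} [Field F] (A : Matrix (Fin 2) (Fin 2) F) :
    A * A = A.trace • A - A.det • (1 : Matrix (Fin 2) (Fin 2) F) := by
  ext i j
  fin_cases i <;> fin_cases j <;>
    simp [Matrix.mul_apply, Fin.sum_univ_two, Matrix.trace_fin_two, Matrix.det_fin_two] <;> ring

theorem lift_commute {F : Type*} [Field F] (g : GL (Fin 2) F)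
    (hsq : (QuotientGroup.mk g : PG 2 F) ^ 2 ≠ 1) (h : GL (Fin 2) F)
    (hy : Commute (QuotientGroup.mk h : PG 2 F) (QuotientGroup.mk g)) : Commute h g := by
  have h1 : (QuotientGroup.mk (h * g) : PG 2 F) = QuotientGroup.mk (g * h) := by
    rw [QuotientGroup.mk_mul, QuotientGroup.mk_mul]
    exact hy
  rw [QuotientGroup.eq] at h1
  obtain ⟨t, ht⟩ := Matrix.GeneralLinearGroup.mem_center_iff_val_mem_range_scalar.mp h1
  -- `g * h = (h * g) * scalar t`
  have h2 : (g * h : GL (Fin 2) F).1 = t • (h * g : GL (Fin 2) F).1 := by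
    have h3 : (h * g : GL (Fin 2) F).1 * ((h * g)⁻¹ * (g * h) : GL (Fin 2) F).1 =
        (g * h : GL (Fin 2) F).1 := by
      rw [← Units.val_mul, mul_inv_cancel_left]
    rw [← h3, ← ht]
    ext i j
    rw [Matrix.scalar_apply, Matrix.mul_diagonal, Matrix.smul_apply, smul_eq_mul, mul_comm]
  have h2' : g.1 * h.1 = t • (h.1 * g.1) := by
    simpa using h2
  -- determinants
  have hdg : g.1.det ≠ 0 := by
    have := g.isUnit.map (Matrix.detMonoidHom : Matrix (Fin 2) (Fin 2) F →* F)
    exact (Matrix.isUnit_iff_isUnit_det g.1).mp (Units.isUnit g) |>.ne_zero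
  have hdh : h.1.det ≠ 0 :=
    (Matrix.isUnit_iff_isUnit_det h.1).mp (Units.isUnit h) |>.ne_zero
  have ht2 : t ^ 2 = 1 := by
    have h4 := congrArg Matrix.det h2'
    rw [Matrix.det_mul, Matrix.det_smul, Matrix.det_mul, Fintype.card_fin] at h4
    have h5 : (g.1.det * h.1.det) * (t ^ 2 - 1) = 0 := by linear_combination -h4
    rcases mul_eq_zero.mp h5 with h6 | h6
    · exact absurd h6 (mul_ne_zero hdg hdh)
    · linear_combination h6
  have ht3 : t = 1 ∨ t = -1 := by
    have : (t - 1) * (t + 1) = 0 := by linear_combination ht2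
    rcases mul_eq_zero.mp this with h6 | h6
    · left; linear_combination h6
    · right; linear_combination h6
  by_cases ht1 : t = 1
  · -- commute
    rw [ht1, one_smul] at h2'
    show h * g = g * h
    apply Units.ext
    simp only [Units.val_mul]
    exact h2'.symm
  · exfalso
    have htm : t = -1 := by
      rcases ht3 with h6 | h6
      · exact absurd h6 ht1
      · exact h6
    have h2ne : (2 : F) ≠ 0 := by
      intro h20
      apply ht1
      rw [htm]
      linear_combination -h20
    rw [htm] at h2'
    -- trace of `g` vanishes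
    have hinv : (h⁻¹ : GL (Fin 2) F).1 * h.1 = 1 := by
      rw [← Units.val_mul, inv_mul_cancel]
      rfl
    have htr : g.1.trace = 0 := by
      have h7 : ((h⁻¹ : GL (Fin 2) F).1 * (g.1 * h.1)).trace = g.1.trace := by
        rw [Matrix.trace_mul_comm, Matrix.mul_assoc]
        have hinv' : h.1 * (h⁻¹ : GL (Fin 2) F).1 = 1 := by
          rw [← Units.val_mul, mul_inv_cancel]
          rfl
        rw [hinv', Matrix.mul_one]
      have h8 : ((h⁻¹ : GL (Fin 2) F).1 * (g.1 * h.1)).trace = - g.1.trace := by
        rw [h2', Matrix.mul_smul, ← Matrix.mul_assoc, hinv, Matrix.one_mul]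
        simp
      have h9 : (2 : F) * g.1.trace = 0 := by linear_combination h8 - h7
      rcases mul_eq_zero.mp h9 with h10 | h10
      · exact absurd h10 h2ne
      · exact h10
    apply hsq
    rw [← QuotientGroup.mk_pow, QuotientGroup.eq_one_iff,
      Matrix.GeneralLinearGroup.mem_center_iff_val_mem_range_scalar]
    refine ⟨-g.1.det, ?_⟩
    rw [Units.val_pow_eq_pow_val, pow_two, sq_eq_two_h75, htr]
    ext i j
    fin_cases i <;> fin_cases j <;> simp

end Cfsg.Agent.Helper94.Nc
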