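import Mathlib
import Cfsg.Agent.Helper94.Nc.Defs
import Cfsg.Agent.Helper94.Nc.P_NSB

set_option autoImplicit false
set_option linter.unusedSectionVars false
set_option linter.unusedVariables false

/-!
# (NSD) every element of `PGL_2(q)` fixes a point or commutes with an element of order `l` of `SL_2(q)` (`l` an odd prime dividing `q + 1`)

`x = mk g`.  If `g` has an eigenvector `v`: `x • [v] = [v]` (`mk_smul_mk_eq_iff` in `Defs`).  Otherwise `α + β g` is invertible for `(α, β) ≠ (0, 0)`
(`β = 0`: scalar; `β ≠ 0`: a kernel vector of `α + β g` is an eigenvector of `g`), and `(α, β) ↦ α + β g` is injective (`g` not scalar), so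
`C := {α + β g}` minus `0` is a commutative subgroup of `GL_2(F)` of order `q² - 1` (it is closed under products by Cayley–Hamilton
`g² = (tr g) g - det g`; or simply take `C := Subgroup.centralizer {g}` and show it has `q² - 1` elements via (NSB) `commutant_two`, file `P_NSB.lean`,
statement only).  `l ∣ q + 1 ∣ q² - 1`: Cauchy gives `c' ∈ C` of order `l`; `det c'` has order dividing `gcd(l, q - 1) = 1` (`l` odd, `l ∣ q + 1`), so `det c' = 1` and
`c := ⟨c', _⟩ : SL_2` has order `l` and commutes with `g`; take `h := g`.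
-/

namespace Cfsg.Agent.Helper94.Nc

open Matrix Projectivization
open scoped LinearAlgebra.Projectivization

/-- a matrix without eigenvectors is not scalar -/
theorem nsd_not_scalar {F : Type*} [Field F] (c : Matrix (Fin 2) (Fin 2) F)
    (hc : ∀ v : Fin 2 → F, v ≠ 0 → ∀ a : F, c *ᵥ v ≠ a • v) (a : F) :
    c ≠ a • (1 : Matrix (Fin 2) (Fin 2) F) := by
  intro h
  have hv : (Pi.single 0 1 : Fin 2 → F) ≠ 0 := by
    intro h0
    have := congrFun h0 0
    simp at this
  apply hc (Pi.single 0 1) hv a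
  rw [h, Matrix.smul_mulVec, Matrix.one_mulVec]

/-- `α + β g` is invertible for `(α, β) ≠ 0` when `g` has no eigenvector -/
theorem nsd_det_ne_zero {F : Type*} [Field F] (g : Matrix (Fin 2) (Fin 2) F)
    (hg : ∀ v : Fin 2 → F, v ≠ 0 → ∀ a : F, g *ᵥ v ≠ a • v) (α β : F) (h : (α, β) ≠ (0, 0)) :
    (α • (1 : Matrix (Fin 2) (Fin 2) F) + β • g).det ≠ 0 := by
  intro hdet
  obtain ⟨v, hv, hv0⟩ := Matrix.exists_mulVec_eq_zero_iff.2 hdet
  rw [Matrix.add_mulVec, Matrix.smul_mulVec, Matrix.smul_mulVec, Matrix.one_mulVec] at hv0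
  by_cases hβ : β = 0
  · subst hβ
    rw [zero_smul, add_zero] at hv0
    rcases smul_eq_zero.1 hv0 with h0 | h0
    · exact h (by rw [h0])
    · exact hv h0
  · apply hg v hv (-(β⁻¹ * α))
    have h1 : β • (g *ᵥ v) = -(α • v) := eq_neg_of_add_eq_zero_right hv0
    calc g *ᵥ v = β⁻¹ • (β • (g *ᵥ v)) := by rw [smul_smul, inv_mul_cancel₀ hβ, one_smul]
      _ = (-(β⁻¹ * α)) • v := by rw [h1, smul_neg, smul_smul, neg_smul]

/-- `(α, β) ↦ α + β g` is injective when `g` is not scalar -/
theorem nsd_inj {F : Type*} [Field F] (g : Matrix (Fin 2) (Fin 2) F)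
    (hg : ∀ a : F, g ≠ a • (1 : Matrix (Fin 2) (Fin 2) F)) (α β α' β' : F)
    (h : α • (1 : Matrix (Fin 2) (Fin 2) F) + β • g = α' • (1 : Matrix (Fin 2) (Fin 2) F) + β' • g) :
    α = α' ∧ β = β' := by
  have h1 : (β - β') • g = (α' - α) • (1 : Matrix (Fin 2) (Fin 2) F) := by
    rw [sub_smul, sub_smul, sub_eq_sub_iff_add_eq_add]
    rw [add_comm, h, add_comm]
  have hβ : β = β' := by
    by_contra hne
    have hne' : β - β' ≠ 0 := sub_ne_zero.2 hne
    apply hg ((β - β')⁻¹ * (α' - α))
    calc g = (β - β')⁻¹ • ((β - β') • g) := by rw [smul_smul, inv_mul_cancel₀ hne', one_smul]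
      _ = _ := by rw [h1, smul_smul]
  refine ⟨?_, hβ⟩
  rw [hβ, sub_self, zero_smul] at h1
  have := congrFun (congrFun h1 0) 0
  simp at this
  exact (sub_eq_zero.1 this.symm).symm

/-- the centralizer of an element of `GL_2(q)` without eigenvectors has `q² - 1` elements -/
theorem nsd_card_centralizer {F : Type*} [Field F] [Fintype F] (g : GL (Fin 2) F)
    (hg : ∀ v : Fin 2 → F, v ≠ 0 → ∀ a : F, g.1 *ᵥ v ≠ a • v) :
    Nat.card (Subgroup.centralizer ({g} : Set (GL (Fin 2) F))) = Fintype.card F ^ 2 - 1 := by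
  classical
  have hns := nsd_not_scalar g.1 hg
  have hp : ∀ p : {p : F × F // p ≠ 0}, (p.1.1, p.1.2) ≠ ((0 : F), (0 : F)) := by
    intro p h
    exact p.2 h
  let φ : {p : F × F // p ≠ 0} → Subgroup.centralizer ({g} : Set (GL (Fin 2) F)) := fun p =>
    ⟨Matrix.GeneralLinearGroup.mkOfDetNeZero (p.1.1 • (1 : Matrix (Fin 2) (Fin 2) F) + p.1.2 • g.1)
      (nsd_det_ne_zero g.1 hg p.1.1 p.1.2 (hp p)), by
      rw [Subgroup.mem_centralizer_singleton_iff]
      apply Units.ext
      show (p.1.1 • (1 : Matrix (Fin 2) (Fin 2) F) + p.1.2 • g.1) * g.1 =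
        g.1 * (p.1.1 • (1 : Matrix (Fin 2) (Fin 2) F) + p.1.2 • g.1)
      rw [mul_add, add_mul, Matrix.mul_smul, Matrix.smul_mul, Matrix.mul_smul, Matrix.smul_mul,
        mul_one, one_mul]⟩
  have hφval : ∀ p, ((φ p : GL (Fin 2) F)).1 =
      p.1.1 • (1 : Matrix (Fin 2) (Fin 2) F) + p.1.2 • g.1 := fun p => rfl
  have hφ : Function.Bijective φ := by
    constructor
    · intro p p' h
      have h1 : ((φ p : GL (Fin 2) F)).1 = ((φ p' : GL (Fin 2) F)).1 := by rw [h]
      rw [hφval, hφval] at h1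
      obtain ⟨e1, e2⟩ := nsd_inj g.1 hns _ _ _ _ h1
      exact Subtype.ext (Prod.ext e1 e2)
    · rintro ⟨c, hc⟩
      rw [Subgroup.mem_centralizer_singleton_iff] at hc
      have hcm : c.1 * g.1 = g.1 * c.1 := congrArg Units.val hc
      obtain ⟨α, β, hαβ⟩ := commutant_two g.1 c.1 hns hcm
      have hne : ((α, β) : F × F) ≠ 0 := by
        intro h0
        have e1 : α = 0 := congrArg Prod.fst h0
        have e2 : β = 0 := congrArg Prod.snd h0
        rw [e1, e2, zero_smul, zero_smul, add_zero] at hαβ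
        have hdet : c.1.det ≠ 0 := by
          have := Matrix.GeneralLinearGroup.det c |>.ne_zero
          simpa using this
        apply hdet
        rw [hαβ]
        simp
      refine ⟨⟨(α, β), hne⟩, ?_⟩
      apply Subtype.ext
      apply Units.ext
      rw [hφval, hαβ]
  rw [← Nat.card_congr (Equiv.ofBijective φ hφ), Nat.card_eq_fintype_card,
    Fintype.card_subtype_compl, Fintype.card_prod, Fintype.card_subtype_eq, sq]

theorem fix_or_cen {F : Type*} [Field F] [Fintype F] (l : ℕ) (hl : l.Prime) (hl2 : l ≠ 2)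
    (hdvd : l ∣ Fintype.card F + 1) (x : PG 2 F) :
    (∃ pt : ℙ F (Fin 2 → F), x • pt = pt) ∨
      ∃ c : Matrix.SpecialLinearGroup (Fin 2) F, orderOf c = l ∧
        ∃ h : GL (Fin 2) F, (QuotientGroup.mk h : PG 2 F) = x ∧
          Commute h (Matrix.SpecialLinearGroup.toGL c) := by
  classical
  obtain ⟨g, rfl⟩ := QuotientGroup.mk_surjective x
  by_cases hev : ∃ v : Fin 2 → F, v ≠ 0 ∧ ∃ a : F, g.1 *ᵥ v = a • v
  · obtain ⟨v, hv, a, ha⟩ := hev
    left
    exact ⟨Projectivization.mk F v hv, (mk_smul_mk_eq_iff g hv).2 ⟨a, ha⟩⟩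
  · right
    have hg : ∀ v : Fin 2 → F, v ≠ 0 → ∀ a : F, g.1 *ᵥ v ≠ a • v := by
      intro v hv a ha
      exact hev ⟨v, hv, a, ha⟩
    have hcard := nsd_card_centralizer g hg
    have : Finite (GL (Fin 2) F) := inferInstance
    have : Fact l.Prime := ⟨hl⟩
    have hq1 : 1 ≤ Fintype.card F := Fintype.card_pos
    have hdvd2 : l ∣ Nat.card (Subgroup.centralizer ({g} : Set (GL (Fin 2) F))) := by
      rw [hcard]
      have : Fintype.card F ^ 2 - 1 = (Fintype.card F + 1) * (Fintype.card F - 1) := by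
        have := Nat.sq_sub_sq (Fintype.card F) 1
        simpa using this
      rw [this]
      exact Dvd.dvd.mul_right hdvd _
    obtain ⟨c', hc'⟩ := exists_prime_orderOf_dvd_card' l hdvd2
    -- the determinant of `c'` is one
    have hcop : Nat.gcd l (Fintype.card F - 1) = 1 := by
      rw [← Nat.coprime_iff_gcd_eq_one]
      rw [Nat.Prime.coprime_iff_not_dvd hl]
      intro h
      have h2 : l ∣ (Fintype.card F + 1) - (Fintype.card F - 1) := Nat.dvd_sub hdvd h
      have h3 : (Fintype.card F + 1) - (Fintype.card F - 1) = 2 := by omega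
      rw [h3] at h2
      exact hl2 ((Nat.prime_dvd_prime_iff_eq hl Nat.prime_two).1 h2)
    have hdet : (c' : GL (Fin 2) F).1.det = 1 := by
      have h1 : c' ^ l = 1 := by rw [← hc']; exact pow_orderOf_eq_one c'
      have h2 : (c' : GL (Fin 2) F).1 ^ l = 1 := by
        have := congrArg (fun y : Subgroup.centralizer ({g} : Set (GL (Fin 2) F)) =>
          ((y : GL (Fin 2) F)).1) h1
        simpa using this
      have h3 : (c' : GL (Fin 2) F).1.det ^ l = 1 := by
        rw [← Matrix.det_pow, h2, Matrix.det_one]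
      have hne : (c' : GL (Fin 2) F).1.det ≠ 0 := by
        have := (Matrix.GeneralLinearGroup.det (c' : GL (Fin 2) F)).ne_zero
        simpa using this
      have h4 : (c' : GL (Fin 2) F).1.det ^ (Fintype.card F - 1) = 1 :=
        FiniteField.pow_card_sub_one_eq_one _ hne
      have h5 := pow_gcd_eq_one.2 ⟨h3, h4⟩
      rw [hcop, pow_one] at h5
      exact h5
    let c : Matrix.SpecialLinearGroup (Fin 2) F := ⟨(c' : GL (Fin 2) F).1, hdet⟩
    have e : Matrix.SpecialLinearGroup.toGL c = (c' : GL (Fin 2) F) := by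
      apply Units.ext
      rfl
    refine ⟨c, ?_, g, rfl, ?_⟩
    · rw [← orderOf_injective _ Matrix.SpecialLinearGroup.toGL_injective c, e, Subgroup.orderOf_coe, hc']
    · rw [e]
      have := c'.2
      rw [Subgroup.mem_centralizer_singleton_iff] at this
      exact this.symm

end Cfsg.Agent.Helper94.Nc
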