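import Mathlib
import Cfsg.Agent.Helper94.Nc.Defs
import Cfsg.Agent.Helper94.Nc.P_NILP
import Cfsg.Agent.Helper94.Nc.P_NSB

set_option autoImplicit false
set_option linter.unusedSectionVars false
set_option linter.unusedVariables false

/-!
# (NSG) the non-split tori `cen G c` (`c ∈ GL_2(F)` without eigenvectors) inside `G ≤ PGL_2(F)`

`cen G c` (`Defs`): the elements of `G` having a lift commuting with `c`; `mem_cen_iff`.  From the STATEMENTS of (NSB) (`commutant_two`, `lift_commute`) and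
(NILP) (`exists_central_of_orderOf_prime`).  `c` is not scalar (a scalar matrix has eigenvectors).
* `eq_one_of_mem_cen_of_fix`: `x = mk h`, `h = α + β c` (`commutant_two`); `pt = [v]` (`Projectivization.ind`), `h v = a v` (`mk_smul_mk_eq_iff`); `β ≠ 0` would make `v` an
  eigenvector of `c`; so `h = α • 1` is central and `x = 1` (`Subtype.ext`, `QuotientGroup.eq_one_iff`).
* `cen_eq_of_common`: `x = mk h = mk h'`, `h` commuting with `c`, `h'` with `c'`; `h' = h * s`, `s` central, so `h` commutes with `c'` too; `h` is not scalar (`x ≠ 1`),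
  so `c = α + β h` and `c' = α' + β' h` with `β, β' ≠ 0` (`c, c'` not scalar): a matrix commutes with `c` iff with `h` iff with `c'`.
* `le_cen_of_nilpotent`: `z ∈ Z(A)` of order `l` (NILP) commutes with `⟨mk c, _⟩`; `(mk c) ^ 2 ≠ 1` (`orderOf = l` odd prime), so a lift `k` of `z` commutes with `c`
  (`lift_commute`), `k = α + β c`, `β ≠ 0` (`z ≠ 1`); `(mk k) ^ 2 ≠ 1` (`orderOf z = l`); every `a ∈ A` commutes with `z`, so a lift of `a` commutes with `k`
  (`lift_commute` again), hence with `c = β⁻¹ (k - α)`.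
-/

namespace Cfsg.Agent.Helper94.Nc

open Matrix Projectivization
open scoped LinearAlgebra.Projectivization

/-- a matrix without eigenvectors is not scalar -/
theorem nsg_not_scalar {F : Type*} [Field F] (c : Matrix (Fin 2) (Fin 2) F)
    (hc : ∀ v : Fin 2 → F, v ≠ 0 → ∀ a : F, c *ᵥ v ≠ a • v) (a : F) :
    c ≠ a • (1 : Matrix (Fin 2) (Fin 2) F) := by
  intro h
  have hv : (Pi.single 0 1 : Fin 2 → F) ≠ 0 := by
    intro h0
    have := congrFun h0 0
    simp at this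
  apply hc (Pi.single 0 1) hv a
  rw [h, Matrix.smul_mulVec, Matrix.one_mulVec]

theorem nsg_commute_iff {F : Type*} [Field F] (k c : GL (Fin 2) F) :
    Commute k c ↔ k.1 * c.1 = c.1 * k.1 :=
  ⟨fun h => congrArg Units.val h.eq, fun h => Units.ext h⟩

theorem nsg_comm_iff {F : Type*} [Field F] (c h k : Matrix (Fin 2) (Fin 2) F) (α β : F)
    (hβ : β ≠ 0) (hc : c = α • (1 : Matrix (Fin 2) (Fin 2) F) + β • h) :
    k * c = c * k ↔ k * h = h * k := by
  rw [hc, mul_add, add_mul, Matrix.mul_smul, Matrix.smul_mul, Matrix.mul_smul, Matrix.smul_mul,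
    mul_one, one_mul, add_right_inj]
  constructor
  · intro e
    have := congrArg (fun M => β⁻¹ • M) e
    simpa [smul_smul, inv_mul_cancel₀ hβ] using this
  · intro e
    rw [e]

theorem nsg_scalar_mem_center {F : Type*} [Field F] (h : GL (Fin 2) F) (α : F)
    (hh : h.1 = α • (1 : Matrix (Fin 2) (Fin 2) F)) : h ∈ Subgroup.center (GL (Fin 2) F) := by
  rw [Matrix.GeneralLinearGroup.mem_center_iff_val_mem_range_scalar]
  refine ⟨α, ?_⟩
  rw [hh]
  ext i j
  simp [Matrix.scalar_apply, Matrix.one_apply, Matrix.diagonal_apply]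

theorem eq_one_of_mem_cen_of_fix {F : Type*} [Field F] (G : Subgroup (PG 2 F)) (c : GL (Fin 2) F)
    (hc : ∀ v : Fin 2 → F, v ≠ 0 → ∀ a : F, c.1 *ᵥ v ≠ a • v) (x : ↥G) (hx : x ∈ cen G c)
    (pt : ℙ F (Fin 2 → F)) (hfix : (x : PG 2 F) • pt = pt) : x = 1 := by
  obtain ⟨h, hhx, hcomm⟩ := hx
  have hcm : h.1 * c.1 = c.1 * h.1 := (nsg_commute_iff h c).1 hcomm
  obtain ⟨α, β, hαβ⟩ := commutant_two c.1 h.1 (nsg_not_scalar c.1 hc) hcm
  induction pt using Projectivization.ind with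
  | h v hv =>
    rw [← hhx, mk_smul_mk_eq_iff] at hfix
    obtain ⟨a, ha⟩ := hfix
    have hβ : β = 0 := by
      by_contra hβ
      apply hc v hv (β⁻¹ * (a - α))
      rw [hαβ, Matrix.add_mulVec, Matrix.smul_mulVec, Matrix.smul_mulVec, Matrix.one_mulVec] at ha
      have h1 : β • (c.1 *ᵥ v) = (a - α) • v := by
        rw [sub_smul, ← ha]
        abel
      calc c.1 *ᵥ v = β⁻¹ • (β • (c.1 *ᵥ v)) := by rw [smul_smul, inv_mul_cancel₀ hβ, one_smul]
        _ = (β⁻¹ * (a - α)) • v := by rw [h1, smul_smul]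
    have hcen : h ∈ Subgroup.center (GL (Fin 2) F) := by
      apply nsg_scalar_mem_center h α
      rw [hαβ, hβ, zero_smul, add_zero]
    apply Subtype.ext
    rw [← hhx]
    exact (QuotientGroup.eq_one_iff h).2 hcen

theorem cen_eq_of_common {F : Type*} [Field F] (G : Subgroup (PG 2 F)) (c c' : GL (Fin 2) F)
    (hc : ∀ v : Fin 2 → F, v ≠ 0 → ∀ a : F, c.1 *ᵥ v ≠ a • v)
    (hc' : ∀ v : Fin 2 → F, v ≠ 0 → ∀ a : F, c'.1 *ᵥ v ≠ a • v) (x : ↥G) (hx1 : x ≠ 1)
    (hx : x ∈ cen G c) (hx' : x ∈ cen G c') : cen G c = cen G c' := by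
  obtain ⟨h, hhx, hcomm⟩ := hx
  obtain ⟨h', hhx', hcomm'⟩ := hx'
  -- `h` commutes with `c'` too
  have hs : h⁻¹ * h' ∈ Subgroup.center (GL (Fin 2) F) := by
    rw [← QuotientGroup.eq, hhx, hhx']
  have hcomm2 : Commute h c' := by
    have e : h = h' * (h⁻¹ * h')⁻¹ := by group
    rw [e]
    refine hcomm'.mul_left ?_
    have := Subgroup.mem_center_iff.1 (Subgroup.inv_mem _ hs) c'
    exact this.symm
  -- `h` is not scalar
  have hns : ∀ a : F, h.1 ≠ a • (1 : Matrix (Fin 2) (Fin 2) F) := by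
    intro a ha
    apply hx1
    apply Subtype.ext
    rw [← hhx]
    exact (QuotientGroup.eq_one_iff h).2 (nsg_scalar_mem_center h a ha)
  obtain ⟨α, β, hαβ⟩ := commutant_two h.1 c.1 hns ((nsg_commute_iff h c).1 hcomm).symm
  obtain ⟨α', β', hαβ'⟩ := commutant_two h.1 c'.1 hns ((nsg_commute_iff h c').1 hcomm2).symm
  have hβ : β ≠ 0 := by
    rintro rfl
    apply nsg_not_scalar c.1 hc α
    rw [hαβ, zero_smul, add_zero]
  have hβ' : β' ≠ 0 := by
    rintro rfl
    apply nsg_not_scalar c'.1 hc' α'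
    rw [hαβ', zero_smul, add_zero]
  ext y
  rw [mem_cen_iff, mem_cen_iff]
  constructor
  · rintro ⟨k, hk, hkc⟩
    refine ⟨k, hk, ?_⟩
    rw [nsg_commute_iff] at hkc ⊢
    exact (nsg_comm_iff c'.1 h.1 k.1 α' β' hβ' hαβ').2 ((nsg_comm_iff c.1 h.1 k.1 α β hβ hαβ).1 hkc)
  · rintro ⟨k, hk, hkc⟩
    refine ⟨k, hk, ?_⟩
    rw [nsg_commute_iff] at hkc ⊢
    exact (nsg_comm_iff c.1 h.1 k.1 α β hβ hαβ).2 ((nsg_comm_iff c'.1 h.1 k.1 α' β' hβ' hαβ').1 hkc)

theorem le_cen_of_nilpotent {F : Type*} [Field F] [Fintype F] (G : Subgroup (PG 2 F))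
    (c : GL (Fin 2) F) (hc : ∀ v : Fin 2 → F, v ≠ 0 → ∀ a : F, c.1 *ᵥ v ≠ a • v)
    (hcG : (QuotientGroup.mk c : PG 2 F) ∈ G) (l : ℕ) (hl : l.Prime) (hl2 : l ≠ 2)
    (hord : orderOf (QuotientGroup.mk c : PG 2 F) = l) (A : Subgroup ↥G)
    (hA : Group.IsNilpotent ↥A) (hcA : (⟨QuotientGroup.mk c, hcG⟩ : ↥G) ∈ A) : A ≤ cen G c := by
  classical
  have : Finite (GL (Fin 2) F) := inferInstance
  have : Finite (PG 2 F) := inferInstance
  have : Finite ↥A := inferInstance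
  have hl1 : l ≠ 1 := hl.ne_one
  have hsq_of : ∀ y : PG 2 F, orderOf y = l → y ^ 2 ≠ 1 := by
    intro y hy h
    have := orderOf_dvd_of_pow_eq_one h
    rw [hy] at this
    exact hl2 ((Nat.prime_dvd_prime_iff_eq hl Nat.prime_two).1 this)
  set xc : ↥A := ⟨⟨QuotientGroup.mk c, hcG⟩, hcA⟩ with hxc_def
  have hxc : orderOf xc = l := by
    have h1 : orderOf (xc : ↥G) = orderOf xc := Subgroup.orderOf_coe xc
    have h2 : orderOf ((xc : ↥G) : PG 2 F) = orderOf (xc : ↥G) := Subgroup.orderOf_coe _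
    rw [← h1, ← h2]
    exact hord
  obtain ⟨z, hz, hzl⟩ := exists_central_of_orderOf_prime hA l hl xc hxc
  have hsqc : (QuotientGroup.mk c : PG 2 F) ^ 2 ≠ 1 := hsq_of _ hord
  obtain ⟨k, hk⟩ := QuotientGroup.mk_surjective ((z : ↥G) : PG 2 F)
  have hzk : orderOf (QuotientGroup.mk k : PG 2 F) = l := by
    have h1 : orderOf (z : ↥G) = orderOf z := Subgroup.orderOf_coe z
    have h2 : orderOf ((z : ↥G) : PG 2 F) = orderOf (z : ↥G) := Subgroup.orderOf_coe _
    rw [hk, h2, h1]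
    exact hzl
  have hzc : Commute (QuotientGroup.mk k : PG 2 F) (QuotientGroup.mk c) := by
    rw [hk]
    have h1 := Subgroup.mem_center_iff.1 hz xc
    have h2 := congrArg (fun a : ↥A => ((a : ↥G) : PG 2 F)) h1
    exact h2.symm
  have hkc : Commute k c := lift_commute c hsqc k hzc
  obtain ⟨α, β, hαβ⟩ := commutant_two c.1 k.1 (nsg_not_scalar c.1 hc) ((nsg_commute_iff k c).1 hkc)
  have hβ : β ≠ 0 := by
    rintro rfl
    have hcen : k ∈ Subgroup.center (GL (Fin 2) F) := by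
      apply nsg_scalar_mem_center k α
      rw [hαβ, zero_smul, add_zero]
    have h1 : (QuotientGroup.mk k : PG 2 F) = 1 := (QuotientGroup.eq_one_iff k).2 hcen
    rw [h1, orderOf_one] at hzk
    exact hl1 hzk.symm
  have hsqk : (QuotientGroup.mk k : PG 2 F) ^ 2 ≠ 1 := hsq_of _ hzk
  intro a ha
  obtain ⟨ka, hka⟩ := QuotientGroup.mk_surjective (a : PG 2 F)
  rw [mem_cen_iff]
  refine ⟨ka, hka, ?_⟩
  have hak : Commute (QuotientGroup.mk ka : PG 2 F) (QuotientGroup.mk k) := by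
    rw [hka, hk]
    have h1 := Subgroup.mem_center_iff.1 hz ⟨a, ha⟩
    have h2 := congrArg (fun a : ↥A => ((a : ↥G) : PG 2 F)) h1
    exact h2
  have hkak : Commute ka k := lift_commute k hsqk ka hak
  rw [nsg_commute_iff] at hkak ⊢
  exact (nsg_comm_iff k.1 c.1 ka.1 α β hβ hαβ).1 hkak

end Cfsg.Agent.Helper94.Nc
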