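import Mathlib
import Cfsg.Agent.Helper94.Nc.Defs

set_option autoImplicit false
set_option linter.unusedSectionVars false
set_option linter.unusedVariables false

/-!
# (SPLIT) the diagonal torus of `PGL_2(F)`

`dg b c : GL (Fin 2) F` is `diag(b, c)` (`Defs`: `dg_val`, `det_dg`), `pt0 = [e0]`, `e0 = ![1, 0]`.
* `orderOf_mk_dg`: `(mk (dg b c)) ^ j = 1` iff `dg (b ^ j) (c ^ j)` is central, i.e. scalar
  (`Matrix.GeneralLinearGroup.mem_center_iff_val_mem_range_scalar`, `QuotientGroup.eq_one_iff`), iff `b ^ j = c ^ j` iff `(b / c) ^ j = 1`;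
  `orderOf_eq_orderOf_iff` / `orderOf_dvd_iff_pow_eq_one`.
* `commute_mk_dg`: `y = mk h` (`QuotientGroup.mk_surjective`); `mk (h * d) = mk (d * h)` gives `h * d = (d * h) * s`, `s` central `= scalar t`; entrywise
  (`d = diag(b, c)`): `h₀₀ b = t b h₀₀`, `h₁₁ c = t c h₁₁`, `h₀₁ c = t b h₀₁`, `h₁₀ b = t c h₁₀`.  If `t = 1`: `h₀₁ = h₁₀ = 0` (`b ≠ c`), so `h` is diagonal with
  nonzero entries (`det h ≠ 0`).  If `t ≠ 1`: `h₀₀ = h₁₁ = 0`, so `h₀₁, h₁₀ ≠ 0`, `c = t b`, `b = t c`, `t² = 1`, `t = -1`, `(b / c) ^ 2 = 1`: excluded.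
* `mk_dg_smul_pt0`: `mk_smul_mk_eq_iff` (`Defs`) with `c := b`.
-/

namespace Cfsg.Agent.Helper94.Nc

open Matrix Projectivization
open scoped LinearAlgebra.Projectivization

theorem SPLIT_dg_pow {F : Type*} [Field F] (b c : Fˣ) (j : ℕ) :
    (dg b c) ^ j = dg (b ^ j) (c ^ j) := by
  apply Units.ext
  rw [Units.val_pow_eq_pow_val, dg_val, dg_val, Matrix.diagonal_pow]
  congr 1
  funext i
  fin_cases i <;> simp

theorem SPLIT_mk_dg_eq_one_iff {F : Type*} [Field F] (b c : Fˣ) :
    (QuotientGroup.mk (dg b c) : PG 2 F) = 1 ↔ b = c := by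
  rw [QuotientGroup.eq_one_iff, Matrix.GeneralLinearGroup.mem_center_iff_val_mem_range_scalar]
  constructor
  · rintro ⟨a, ha⟩
    rw [dg_val, Matrix.scalar_apply, Matrix.diagonal_eq_diagonal_iff] at ha
    have h0 := ha 0
    have h1 := ha 1
    apply Units.ext
    simp at h0 h1
    rw [← h0, ← h1]
  · rintro rfl
    refine ⟨(b : F), ?_⟩
    rw [dg_val, Matrix.scalar_apply, Matrix.diagonal_eq_diagonal_iff]
    intro i
    fin_cases i <;> simp

theorem orderOf_mk_dg {F : Type*} [Field F] (b c : Fˣ) :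
    orderOf (QuotientGroup.mk (dg b c) : PG 2 F) = orderOf (b / c) := by
  rw [orderOf_eq_orderOf_iff]
  intro j
  rw [← QuotientGroup.mk_pow, SPLIT_dg_pow, SPLIT_mk_dg_eq_one_iff, div_pow, div_eq_one]

theorem commute_mk_dg {F : Type*} [Field F] (b c : Fˣ) (h : (b / c) ^ 2 ≠ 1) (y : PG 2 F)
    (hy : Commute y (QuotientGroup.mk (dg b c))) :
    ∃ b' c' : Fˣ, y = QuotientGroup.mk (dg b' c') := by
  obtain ⟨g, rfl⟩ := QuotientGroup.mk_surjective y
  have hy' : (QuotientGroup.mk (g * dg b c) : PG 2 F) = QuotientGroup.mk (dg b c * g) := by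
    rw [QuotientGroup.mk_mul, QuotientGroup.mk_mul]
    exact hy.eq
  rw [QuotientGroup.eq, Matrix.GeneralLinearGroup.mem_center_iff_val_mem_range_scalar] at hy'
  obtain ⟨t, ht⟩ := hy'
  have h1 : (g * dg b c) * ((g * dg b c)⁻¹ * (dg b c * g)) = dg b c * g := by group
  have h2 := congrArg Units.val h1
  rw [Units.val_mul, ← ht, Units.val_mul, Units.val_mul, dg_val, Matrix.scalar_apply] at h2
  have hb0 : (b : F) ≠ 0 := b.ne_zero
  have hc0 : (c : F) ≠ 0 := c.ne_zero
  have e00 := congrFun (congrFun h2 0) 0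
  have e01 := congrFun (congrFun h2 0) 1
  have e10 := congrFun (congrFun h2 1) 0
  have e11 := congrFun (congrFun h2 1) 1
  simp [Matrix.mul_apply, Fin.sum_univ_two, Matrix.diagonal_apply] at e00 e01 e10 e11
  have hdet : g.1.det ≠ 0 := ((Matrix.isUnit_iff_isUnit_det _).1 g.isUnit).ne_zero
  rw [Matrix.det_fin_two] at hdet
  have hbc : (b : F) ≠ (c : F) := by
    intro hbc
    apply h
    have : b = c := Units.ext hbc
    rw [this, div_self', one_pow]
  by_cases ht1 : t = 1
  · subst ht1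
    have h01 : g.1 0 1 = 0 := by
      have : g.1 0 1 * ((c : F) - b) = 0 := by linear_combination e01
      rcases mul_eq_zero.1 this with h0 | h0
      · exact h0
      · exact absurd (sub_eq_zero.1 h0).symm hbc
    have h10 : g.1 1 0 = 0 := by
      have : g.1 1 0 * ((b : F) - c) = 0 := by linear_combination e10
      rcases mul_eq_zero.1 this with h0 | h0
      · exact h0
      · exact absurd (sub_eq_zero.1 h0) hbc
    rw [h01, h10] at hdet
    have h00 : g.1 0 0 ≠ 0 := fun h0 => hdet (by rw [h0]; ring)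
    have h11 : g.1 1 1 ≠ 0 := fun h0 => hdet (by rw [h0]; ring)
    refine ⟨Units.mk0 _ h00, Units.mk0 _ h11, ?_⟩
    congr 1
    apply Units.ext
    rw [dg_val]
    ext i j
    fin_cases i <;> fin_cases j <;> simp [h01, h10]
  · exfalso
    have h00 : g.1 0 0 = 0 := by
      have : g.1 0 0 * ((b : F) * (t - 1)) = 0 := by linear_combination e00
      rcases mul_eq_zero.1 this with h0 | h0
      · exact h0
      · rcases mul_eq_zero.1 h0 with h3 | h3
        · exact absurd h3 hb0
        · exact absurd (sub_eq_zero.1 h3) ht1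
    have h11 : g.1 1 1 = 0 := by
      have : g.1 1 1 * ((c : F) * (t - 1)) = 0 := by linear_combination e11
      rcases mul_eq_zero.1 this with h0 | h0
      · exact h0
      · rcases mul_eq_zero.1 h0 with h3 | h3
        · exact absurd h3 hc0
        · exact absurd (sub_eq_zero.1 h3) ht1
    rw [h00, h11] at hdet
    have h01 : g.1 0 1 ≠ 0 := fun h0 => hdet (by rw [h0]; ring)
    have h10 : g.1 1 0 ≠ 0 := fun h0 => hdet (by rw [h0]; ring)
    have k1 : (c : F) * t = b := by
      have : g.1 0 1 * ((c : F) * t - b) = 0 := by linear_combination e01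
      rcases mul_eq_zero.1 this with h0 | h0
      · exact absurd h0 h01
      · exact sub_eq_zero.1 h0
    have k2 : (b : F) * t = c := by
      have : g.1 1 0 * ((b : F) * t - c) = 0 := by linear_combination e10
      rcases mul_eq_zero.1 this with h0 | h0
      · exact absurd h0 h10
      · exact sub_eq_zero.1 h0
    have ht2 : t * t = 1 := by
      have : (b : F) * (t * t - 1) = 0 := by linear_combination t * k2 + k1
      rcases mul_eq_zero.1 this with h0 | h0
      · exact absurd h0 hb0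
      · exact sub_eq_zero.1 h0
    apply h
    rw [div_pow, div_eq_one]
    apply Units.ext
    push_cast
    rw [← k1]
    linear_combination (c : F) ^ 2 * ht2

theorem mk_dg_smul_pt0 {F : Type*} [Field F] (b c : Fˣ) :
    (QuotientGroup.mk (dg b c) : PG 2 F) • (pt0 : ℙ F (Fin 2 → F)) = pt0 := by
  unfold pt0
  rw [mk_smul_mk_eq_iff]
  refine ⟨(b : F), ?_⟩
  rw [dg_val]
  funext i
  fin_cases i <;> simp [e0, Matrix.mulVec_diagonal]

end Cfsg.Agent.Helper94.Nc
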