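import Mathlib
import Cfsg.Agent.Helper94.Nc.Common
import Cfsg.Agent.Helper94.Nc.P_ARITH
import Cfsg.Agent.Helper94.Nc.P_SPLIT
import Cfsg.Agent.Helper94.Nc.P_NSA
import Cfsg.Agent.Helper94.Nc.P_NSD
import Cfsg.Agent.Helper94.Nc.P_NSG

set_option autoImplicit false
set_option linter.unusedSectionVars false
set_option linter.unusedVariables false

/-!
# S3894: the case `n = 2`
-/

namespace Cfsg.Agent.Helper94.Nc

open Matrix Projectivization
open scoped LinearAlgebra.Projectivization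

variable {F : Type*} [Field F] [Fintype F]

theorem char_dvd_card (p : ℕ) [Fact p.Prime] [CharP F p] : p ∣ Fintype.card F :=
  (CharP.cast_eq_zero_iff F p (Fintype.card F)).1 (Nat.cast_card_eq_zero F)

/-- an element of a `p`-group whose order divides `q - 1` is trivial -/
theorem eq_one_of_isPGroup {H : Type*} [Group H] (p : ℕ) [Fact p.Prime] [CharP F p]
    (hH : IsPGroup p H) (x : H) (hx : orderOf x ∣ Fintype.card F - 1) : x = 1 := by
  obtain ⟨k, hk⟩ := IsPGroup.iff_orderOf.1 hH x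
  have hp : p.Prime := Fact.out
  rcases Nat.eq_zero_or_pos k with rfl | hkpos
  · rw [pow_zero] at hk
    exact orderOf_eq_one_iff.1 hk
  · exfalso
    have h1 : p ∣ Fintype.card F - 1 := by
      rw [hk] at hx
      exact (dvd_pow_self p (by omega)).trans hx
    have h2 : p ∣ Fintype.card F := char_dvd_card p
    have hq : 0 < Fintype.card F := Fintype.card_pos
    have h3 : p ∣ 1 := by
      have := (Nat.dvd_sub h2 h1)
      rwa [Nat.sub_sub_self (by omega)] at this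
    exact hp.one_lt.ne' (Nat.dvd_one.1 h3)

/-- the diagonal element `diag(a, a⁻¹)` in `G` -/
noncomputable def xd (G : Subgroup (PG 2 F)) (hG : slImage 2 F ≤ G) (a : Fˣ) : ↥G :=
  ⟨QuotientGroup.mk (dg a a⁻¹), hG (mk_mem_slImage_of_det _ (by rw [det_dg]; simp))⟩

theorem orderOf_xd (G : Subgroup (PG 2 F)) (hG : slImage 2 F ≤ G) (a : Fˣ) :
    orderOf (xd G hG a) = orderOf (a ^ 2) := by
  rw [← Subgroup.orderOf_coe]
  show orderOf (QuotientGroup.mk (dg a a⁻¹) : PG 2 F) = _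
  rw [orderOf_mk_dg, div_inv_eq_mul, ← sq]

theorem xd_fix (G : Subgroup (PG 2 F)) (hG : slImage 2 F ≤ G) (a : Fˣ) :
    ((xd G hG a : ↥G) : PG 2 F) • (pt0 : ℙ F (Fin 2 → F)) = pt0 :=
  mk_dg_smul_pt0 a a⁻¹

theorem orderOf_sq_dvd (a : Fˣ) : orderOf (a ^ 2) ∣ Fintype.card F - 1 := by
  classical
  rw [← Fintype.card_units]
  exact orderOf_dvd_card

/-- the members fixing a point are `p`-groups -/
theorem fixing_isPGroup (p : ℕ) [Fact p.Prime] [CharP F p] {n : ℕ} (hn : 2 ≤ n)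
    (G : Subgroup (PG n F))
    (hG : slImage n F ≤ G) (𝓐 : Finset (Subgroup ↥G)) (hprop : ∀ A ∈ 𝓐, A ≠ ⊤)
    (hcov : ∀ g : ↥G, ∃ A ∈ 𝓐, g ∈ A)
    (hmin : ∀ 𝓑 : Finset (Subgroup ↥G), (∀ B ∈ 𝓑, B ≠ ⊤) ∧ (∀ g : ↥G, ∃ B ∈ 𝓑, g ∈ B) →
      𝓐.card ≤ 𝓑.card)
    (hnil : ∀ A ∈ 𝓐, Group.IsNilpotent ↥A) :
    (∀ A ∈ fixing G 𝓐, IsPGroup p A) ∧ (stabs G).card ≤ (fixing G 𝓐).card := by
  obtain ⟨Φ, hΦ𝓐, hΦp, hΦpt, hΦhyp, hΦupt, hΦuhyp⟩ := exists_members p hn G hG 𝓐 hcov hnil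
  have hle := card_fixing_le hn G hG 𝓐 hprop hcov hmin
  have h1 : ∀ i, Φ i ∈ fixing G 𝓐 := fun i => phi_mem_fixing G 𝓐 i _ (hΦ𝓐 i) (hΦpt i)
  have h2 : ∀ i j, Φ i = Φ j →
      MulAction.stabilizer ↥G i.pt = MulAction.stabilizer ↥G j.pt := by
    intro i j hij
    have : i.pt = j.pt := by
      apply hΦupt j
      intro a ha
      rw [← hij] at ha
      exact hΦpt i a ha
    rw [this]
  have h3 : ∀ B ∈ stabs G, ∃ i : Inc n F, MulAction.stabilizer ↥G i.pt = B := by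
    intro B hB
    obtain ⟨pt, rfl⟩ := (mem_stabs G B).1 hB
    obtain ⟨i, rfl⟩ := exists_inc_pt hn pt
    exact ⟨i, rfl⟩
  refine ⟨?_, card_le_of_map Φ (fun i => MulAction.stabilizer ↥G i.pt) _ _ h1 h2 h3⟩
  intro A hA
  obtain ⟨i, rfl⟩ := exists_of_card_le Φ (fun i => MulAction.stabilizer ↥G i.pt) (fixing G 𝓐)
    (stabs G) h1 h2 h3 (fun i => (mem_stabs G _).2 ⟨i.pt, rfl⟩) hle A hA
  exact hΦp i

/-- Case I: an odd prime `l` divides `q - 1` -/
theorem case_split (p : ℕ) [Fact p.Prime] [CharP F p] (G : Subgroup (PG 2 F))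
    (hG : slImage 2 F ≤ G) (𝓐 : Finset (Subgroup ↥G))
    (hcov : ∀ g : ↥G, ∃ A ∈ 𝓐, g ∈ A)
    (hnil : ∀ A ∈ 𝓐, Group.IsNilpotent ↥A)
    (hpg : ∀ A ∈ fixing G 𝓐, IsPGroup p A)
    (l : ℕ) (hl : l.Prime) (hl2 : l ≠ 2) (hdvd : l ∣ Fintype.card F - 1) : False := by
  obtain ⟨a, ha⟩ := exists_unit_orderOf (F := F) l hl hdvd
  have hcop : Nat.Coprime (orderOf a) 2 := by
    rw [ha]
    exact (Nat.coprime_primes hl Nat.prime_two).2 hl2
  have hord : orderOf (xd G hG a) = l := by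
    rw [orderOf_xd, hcop.orderOf_pow, ha]
  obtain ⟨A, hA𝓐, hxA⟩ := hcov (xd G hG a)
  have hfinA : Finite ↥A := inferInstance
  have hordA : orderOf (⟨xd G hG a, hxA⟩ : ↥A) = l := by
    rw [← Subgroup.orderOf_coe]
    exact hord
  obtain ⟨z, hzc, hzord⟩ := exists_central_of_orderOf_prime (hnil A hA𝓐) l hl ⟨xd G hG a, hxA⟩ hordA
  -- `z` commutes with `xd`
  have hz1 : Commute ((z : ↥G) : PG 2 F) (QuotientGroup.mk (dg a a⁻¹)) := by
    have h := (Subgroup.mem_center_iff.1 hzc ⟨xd G hG a, hxA⟩)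
    have h' := congrArg (fun w : ↥A => ((w : ↥G) : PG 2 F)) h
    exact h'.symm
  have ha4 : (a / a⁻¹) ^ 2 ≠ 1 := by
    rw [div_inv_eq_mul, ← sq, ← pow_mul]
    intro h4
    have := orderOf_dvd_of_pow_eq_one h4
    rw [ha] at this
    have h5 : l ∣ 2 ^ 2 := by simpa using this
    have := (Nat.prime_dvd_prime_iff_eq hl Nat.prime_two).1 (hl.dvd_of_dvd_pow h5)
    exact hl2 this
  obtain ⟨b', c', hbc⟩ := commute_mk_dg a a⁻¹ ha4 _ hz1
  have hzord' : orderOf (b' / c') = l := by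
    rw [← orderOf_mk_dg, ← hbc, Subgroup.orderOf_coe, Subgroup.orderOf_coe]
    exact hzord
  have hbc2 : (b' / c') ^ 2 ≠ 1 := by
    intro h
    have := orderOf_dvd_of_pow_eq_one h
    rw [hzord'] at this
    exact hl2 ((Nat.prime_dvd_prime_iff_eq hl Nat.prime_two).1 this)
  have hfix : A ∈ fixing G 𝓐 := by
    refine (mem_fixing G 𝓐 A).2 ⟨hA𝓐, pt0, ?_⟩
    intro y hy
    rw [MulAction.mem_stabilizer_iff, smul_coe]
    have hyz : Commute ((y : ↥G) : PG 2 F) (QuotientGroup.mk (dg b' c')) := by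
      rw [← hbc]
      have h := (Subgroup.mem_center_iff.1 hzc ⟨y, hy⟩)
      have h' := congrArg (fun w : ↥A => ((w : ↥G) : PG 2 F)) h
      exact h'
    obtain ⟨b'', c'', hy''⟩ := commute_mk_dg b' c' hbc2 _ hyz
    rw [hy'']
    exact mk_dg_smul_pt0 b'' c''
  have hP := hpg A hfix
  have h1 : (⟨xd G hG a, hxA⟩ : ↥A) = 1 := by
    apply eq_one_of_isPGroup (F := F) p hP
    rw [hordA]
    exact hdvd
  rw [h1, orderOf_one] at hordA
  exact hl.one_lt.ne hordA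

/-- Case II: an odd prime `l` divides `q + 1` -/
theorem case_nonsplit (p : ℕ) [Fact p.Prime] [CharP F p] (hq : 4 ≤ Fintype.card F)
    (G : Subgroup (PG 2 F)) (hG : slImage 2 F ≤ G) (𝓐 : Finset (Subgroup ↥G))
    (hcov : ∀ g : ↥G, ∃ A ∈ 𝓐, g ∈ A)
    (hmin : ∀ 𝓑 : Finset (Subgroup ↥G), (∀ B ∈ 𝓑, B ≠ ⊤) ∧ (∀ g : ↥G, ∃ B ∈ 𝓑, g ∈ B) →
      𝓐.card ≤ 𝓑.card)
    (hnil : ∀ A ∈ 𝓐, Group.IsNilpotent ↥A)
    (hpg : ∀ A ∈ fixing G 𝓐, IsPGroup p A) (hge : (stabs G).card ≤ (fixing G 𝓐).card)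
    (l : ℕ) (hl : l.Prime) (hl2 : l ≠ 2) (hdvd : l ∣ Fintype.card F + 1) : False := by
  classical
  obtain ⟨a, ha⟩ := exists_unit_sq_ne_one (F := F) hq
  have hxd1 : xd G hG a ≠ 1 := by
    intro h
    have h1 := orderOf_xd G hG a
    rw [h, orderOf_one] at h1
    exact ha (orderOf_eq_one_iff.1 h1.symm)
  obtain ⟨Ad, hAd𝓐, hxAd⟩ := hcov (xd G hG a)
  have hAdfix : Ad ∉ fixing G 𝓐 := by
    intro hfix
    have hP := hpg Ad hfix
    have h1 : (⟨xd G hG a, hxAd⟩ : ↥Ad) = 1 := by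
      apply eq_one_of_isPGroup (F := F) p hP
      rw [← Subgroup.orderOf_coe]
      show orderOf (xd G hG a) ∣ _
      rw [orderOf_xd]
      exact orderOf_sq_dvd a
    exact hxd1 (congrArg (fun w : ↥Ad => (w : ↥G)) h1)
  -- the elements of order `l`
  let Cs := {c : Matrix.SpecialLinearGroup (Fin 2) F // orderOf c = l}
  have : Fintype Cs := Fintype.ofFinite _
  have hne : ∀ c : Cs, ∀ v : Fin 2 → F, v ≠ 0 → ∀ b : F,
      (Matrix.SpecialLinearGroup.toGL c.1).1 *ᵥ v ≠ b • v :=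
    fun c v hv b => no_eigenvector l hl hl2 hdvd c.1 c.2 v hv b
  have hcG : ∀ c : Cs, (QuotientGroup.mk (Matrix.SpecialLinearGroup.toGL c.1) : PG 2 F) ∈ G :=
    fun c => hG (mk_mem_slImage c.1)
  have hord : ∀ c : Cs,
      orderOf (QuotientGroup.mk (Matrix.SpecialLinearGroup.toGL c.1) : PG 2 F) = l :=
    fun c => orderOf_mk_sl2 l hl hl2 c.1 c.2
  have hxc_cen : ∀ c : Cs, (⟨_, hcG c⟩ : ↥G) ∈ cen G (Matrix.SpecialLinearGroup.toGL c.1) :=
    fun c => ⟨Matrix.SpecialLinearGroup.toGL c.1, rfl, Commute.refl _⟩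
  have hxc1 : ∀ c : Cs, (⟨_, hcG c⟩ : ↥G) ≠ 1 := by
    intro c h
    have h1 := hord c
    have h2 : (QuotientGroup.mk (Matrix.SpecialLinearGroup.toGL c.1) : PG 2 F) = 1 :=
      congrArg (fun w : ↥G => (w : PG 2 F)) h
    rw [h2, orderOf_one] at h1
    exact hl.one_lt.ne h1
  have hcen_ne : ∀ c : Cs, cen G (Matrix.SpecialLinearGroup.toGL c.1) ≠ ⊤ := by
    intro c h
    have hx : xd G hG a ∈ cen G (Matrix.SpecialLinearGroup.toGL c.1) := by
      rw [h]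
      exact Subgroup.mem_top _
    exact hxd1 (eq_one_of_mem_cen_of_fix G _ (hne c) _ hx pt0 (xd_fix G hG a))
  let T : Finset (Subgroup ↥G) :=
    Finset.univ.image (fun c : Cs => cen G (Matrix.SpecialLinearGroup.toGL c.1))
  have hmemT : ∀ B, B ∈ T ↔ ∃ c : Cs, cen G (Matrix.SpecialLinearGroup.toGL c.1) = B := by
    intro B
    simp [T]
  -- the smaller cover
  have hcard1 : 𝓐.card ≤ (stabs G).card + T.card := by
    refine (hmin (stabs G ∪ T) ⟨?_, ?_⟩).trans (Finset.card_union_le _ _)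
    · intro B hB
      rcases Finset.mem_union.1 hB with hB | hB
      · obtain ⟨pt, rfl⟩ := (mem_stabs G B).1 hB
        exact stabilizer_ne_top (by omega) G hG pt
      · obtain ⟨c, rfl⟩ := (hmemT B).1 hB
        exact hcen_ne c
    · intro g
      rcases fix_or_cen l hl hl2 hdvd (g : PG 2 F) with ⟨pt, hpt⟩ | ⟨c, hc, h, hh, hcomm⟩
      · refine ⟨MulAction.stabilizer ↥G pt, Finset.mem_union_left _ ((mem_stabs G _).2 ⟨pt, rfl⟩), ?_⟩
        rw [MulAction.mem_stabilizer_iff, smul_coe]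
        exact hpt
      · refine ⟨cen G (Matrix.SpecialLinearGroup.toGL c),
          Finset.mem_union_right _ ((hmemT _).2 ⟨⟨c, hc⟩, rfl⟩), ?_⟩
        exact ⟨h, hh, hcomm⟩
  -- the members attached to the tori
  have key : ∀ c : Cs, ∃ A : Subgroup ↥G, A ∈ 𝓐 ∧ (⟨_, hcG c⟩ : ↥G) ∈ A := fun c => hcov _
  choose Ψ hΨ using key
  have hΨle : ∀ c : Cs, Ψ c ≤ cen G (Matrix.SpecialLinearGroup.toGL c.1) := fun c =>
    le_cen_of_nilpotent G _ (hne c) (hcG c) l hl hl2 (hord c) (Ψ c) (hnil _ (hΨ c).1) (hΨ c).2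
  let S : Finset (Subgroup ↥G) := 𝓐.filter (fun A => A ∉ fixing G 𝓐 ∧ A ≠ Ad)
  have hΨS : ∀ c : Cs, Ψ c ∈ S := by
    intro c
    refine Finset.mem_filter.2 ⟨(hΨ c).1, ?_, ?_⟩
    · intro hfix
      obtain ⟨pt, hpt⟩ := ((mem_fixing G 𝓐 _).1 hfix).2
      have h1 := hpt (hΨ c).2
      rw [MulAction.mem_stabilizer_iff, smul_coe] at h1
      exact hxc1 c (eq_one_of_mem_cen_of_fix G _ (hne c) _ (hxc_cen c) pt h1)
    · intro h
      have hx : xd G hG a ∈ cen G (Matrix.SpecialLinearGroup.toGL c.1) := by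
        apply hΨle c
        rw [h]
        exact hxAd
      exact hxd1 (eq_one_of_mem_cen_of_fix G _ (hne c) _ hx pt0 (xd_fix G hG a))
  have hcard2 : T.card ≤ S.card := by
    refine card_le_of_map Ψ (fun c : Cs => cen G (Matrix.SpecialLinearGroup.toGL c.1)) S T hΨS ?_ ?_
    · intro c c' hcc'
      refine cen_eq_of_common G _ _ (hne c) (hne c') ⟨_, hcG c⟩ (hxc1 c) (hxc_cen c) ?_
      apply hΨle c'
      rw [← hcc']
      exact (hΨ c).2
    · intro B hB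
      exact (hmemT B).1 hB
  -- count
  have hsub : fixing G 𝓐 ∪ S ∪ {Ad} ⊆ 𝓐 := by
    intro A hA
    rcases Finset.mem_union.1 hA with hA | hA
    · rcases Finset.mem_union.1 hA with hA | hA
      · exact ((mem_fixing G 𝓐 A).1 hA).1
      · exact (Finset.mem_filter.1 hA).1
    · rw [Finset.mem_singleton.1 hA]
      exact hAd𝓐
  have hdisj1 : Disjoint (fixing G 𝓐) S := by
    rw [Finset.disjoint_left]
    intro A hA hAS
    exact (Finset.mem_filter.1 hAS).2.1 hA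
  have hdisj2 : Disjoint (fixing G 𝓐 ∪ S) {Ad} := by
    rw [Finset.disjoint_singleton_right]
    intro hA
    rcases Finset.mem_union.1 hA with hA | hA
    · exact hAdfix hA
    · exact (Finset.mem_filter.1 hA).2.2 rfl
  have hcard3 : (fixing G 𝓐).card + S.card + 1 ≤ 𝓐.card := by
    have := Finset.card_le_card hsub
    rwa [Finset.card_union_of_disjoint hdisj2, Finset.card_union_of_disjoint hdisj1,
      Finset.card_singleton] at this
  omega

/-- the case `n = 2` -/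
theorem main_two (p : ℕ) [Fact p.Prime] [CharP F p] (hq : 4 ≤ Fintype.card F)
    (G : Subgroup (PG 2 F)) (hG : slImage 2 F ≤ G) (𝓐 : Finset (Subgroup ↥G))
    (hprop : ∀ A ∈ 𝓐, A ≠ ⊤) (hcov : ∀ g : ↥G, ∃ A ∈ 𝓐, g ∈ A)
    (hmin : ∀ 𝓑 : Finset (Subgroup ↥G), (∀ B ∈ 𝓑, B ≠ ⊤) ∧ (∀ g : ↥G, ∃ B ∈ 𝓑, g ∈ B) →
      𝓐.card ≤ 𝓑.card)
    (hnil : ∀ A ∈ 𝓐, Group.IsNilpotent ↥A) : False := by
  obtain ⟨hpg, hge⟩ := fixing_isPGroup p (le_refl 2) G hG 𝓐 hprop hcov hmin hnil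
  rcases exists_odd_prime (Fintype.card F) hq with ⟨l, hl, hl2, hdvd⟩ | ⟨l, hl, hl2, hdvd⟩
  · exact case_split p G hG 𝓐 hcov hnil hpg l hl hl2 hdvd
  · exact case_nonsplit p hq G hG 𝓐 hcov hmin hnil hpg hge l hl hl2 hdvd

end Cfsg.Agent.Helper94.Nc
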