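import Mathlib
import Cfsg.Agent.Helper94.Nc.Common
import Cfsg.Agent.Helper94.Nc.Main2

set_option autoImplicit false
set_option linter.unusedSectionVars false
set_option linter.unusedVariables false

/-!
# S3894: no group between `PSL_n(q)` and `PGL_n(q)` has a nilpotent minimal cover
-/

namespace Cfsg.Agent.Helper94.Nc

variable {F : Type*} [Field F] [Fintype F]

theorem no_nilpotent_min_cover (n : ℕ) (hn : 3 ≤ n ∨ (n = 2 ∧ 4 ≤ Fintype.card F))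
    (G : Subgroup (PG n F)) (hG : slImage n F ≤ G) :
    ¬ ∃ 𝓐 : Finset (Subgroup ↥G), ((∀ A ∈ 𝓐, A ≠ ⊤) ∧ (∀ g : ↥G, ∃ A ∈ 𝓐, g ∈ A)) ∧
      (∀ 𝓑 : Finset (Subgroup ↥G), (∀ A ∈ 𝓑, A ≠ ⊤) ∧ (∀ g : ↥G, ∃ A ∈ 𝓑, g ∈ A) →
        𝓐.card ≤ 𝓑.card) ∧ (∀ A ∈ 𝓐, Group.IsNilpotent ↥A) := by
  rintro ⟨𝓐, ⟨hprop, hcov⟩, hmin, hnil⟩
  have : Fact (ringChar F).Prime := ⟨CharP.char_is_prime F _⟩
  rcases hn with hn | ⟨rfl, hq⟩
  · exact main_three (ringChar F) hn G hG 𝓐 hprop hcov hmin hnil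
  · exact main_two (ringChar F) hq G hG 𝓐 hprop hcov hmin hnil

end Cfsg.Agent.Helper94.Nc
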